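import Cfsg.Agent.Lib.DihedralEight.Recognition
import Cfsg.Agent.Lib.SmallOrder.Basic
import Cfsg.Agent.Lib.Linear.PSL2Seven
import Mathlib.GroupTheory.SpecificGroups.ZGroup
import Mathlib.Tactic.IntervalCases

/-!
# The simple group of order 168 is `PSL(2,7)`
-/

set_option autoImplicit false
set_option linter.style.haveILetI false
set_option maxHeartbeats 800000

namespace CfsgLib.AltEight

variable {G : Type*} [Group G] [Finite G] [IsSimpleGroup G]

/-- A simple group of order 168 is `PSL(2,7)`. -/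
theorem exists_psl_of_card_168 (hG : Nat.card G = 168) :
    ∃ (F : Type) (_ : Field F) (_ : Fintype F), Fintype.card F = 7 ∧
      Nonempty (G ≃* Matrix.ProjectiveSpecialLinearGroup (Fin 2) F) := by
  classical
  haveI : Fact (Nat.Prime 7) := ⟨by norm_num⟩
  haveI : Fact (Nat.Prime 3) := ⟨by norm_num⟩
  have hindex : ∀ (p : ℕ) [Fact p.Prime] (P : Sylow p G),
      Nat.card (Subgroup.normalizer ((P : Subgroup G) : Set G)) * Nat.card (Sylow p G) = 168 := by
    intro p _ P
    have h := Subgroup.card_mul_index (Subgroup.normalizer ((P : Subgroup G) : Set G))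
    rw [show (Subgroup.normalizer ((P : Subgroup G) : Set G)).index = Nat.card (Sylow p G) from
      (Sylow.card_eq_index_normalizer P).symm, hG] at h
    exact h
  obtain ⟨h7a, h7b, h7c, -⟩ := CfsgLib.SmallOrder.card_sylow_facts (G := G) (p := 7) (e := 1) (m := 24)
    (by rw [hG]; norm_num) (by norm_num) one_pos (by norm_num)
  have hn7 : Nat.card (Sylow 7 G) = 8 := by
    have := Nat.le_of_dvd (by norm_num) h7a
    interval_cases Nat.card (Sylow 7 G) <;> omega
  have hc7 : ∀ P : Sylow 7 G, Nat.card (P : Subgroup G) = 7 ^ 1 :=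
    CfsgLib.SmallOrder.card_sylow_eq (G := G) (e := 1) (m := 24) (by rw [hG]; norm_num) (by norm_num)
  have hc3 : ∀ M : Sylow 3 G, Nat.card (M : Subgroup G) = 3 ^ 1 :=
    CfsgLib.SmallOrder.card_sylow_eq (G := G) (e := 1) (m := 56) (by rw [hG]; norm_num) (by norm_num)
  have hN7 : ∀ P : Sylow 7 G, Nat.card (Subgroup.normalizer ((P : Subgroup G) : Set G)) = 21 := by
    intro P
    have := hindex 7 P
    rw [hn7] at this
    omega
  have hcomm : ∀ P : Sylow 7 G, ∀ a ∈ (P : Subgroup G), ∀ b ∈ (P : Subgroup G), a * b = b * a := by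
    intro P a ha b hb
    haveI : IsCyclic (P : Subgroup G) := isCyclic_of_prime_card (p := 7) (by rw [hc7, pow_one])
    let _ : CommGroup (P : Subgroup G) := IsCyclic.commGroup
    exact congrArg Subtype.val (mul_comm (⟨a, ha⟩ : (P : Subgroup G)) ⟨b, hb⟩)
  have hne7 : ∀ P : Sylow 7 G, (P : Subgroup G) ≠ ⊥ ∧ (P : Subgroup G) ≠ ⊤ := fun P => by
    constructor <;> intro h <;> have h' := hc7 P <;> rw [h] at h'
    · rw [Subgroup.card_bot] at h'; norm_num at h'
    · rw [Subgroup.card_top, hG] at h'; norm_num at h'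
  have hcent : ∀ P : Sylow 7 G, ∀ x ∈ (P : Subgroup G), x ≠ 1 →
      Subgroup.centralizer ({x} : Set G) ≤ P := by
    intro P x hx hx1
    have hz : Subgroup.zpowers x = (P : Subgroup G) := by
      refine Subgroup.eq_of_le_of_card_ge (Subgroup.zpowers_le.mpr hx) ?_
      have ho : orderOf x ∣ 7 := by
        have := Subgroup.orderOf_dvd_natCard (P : Subgroup G) hx
        rwa [hc7, pow_one] at this
      rcases (Nat.dvd_prime (by norm_num)).mp ho with h | h
      · exact absurd (orderOf_eq_one_iff.mp h) hx1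
      · rw [Nat.card_zpowers, h, hc7, pow_one]
    have hcz : Subgroup.centralizer ({x} : Set G) ≤ Subgroup.centralizer ((P : Subgroup G) : Set G) := by
      intro y hy
      rw [Subgroup.mem_centralizer_iff, ← hz]
      rintro _ ⟨i, rfl⟩
      exact ((show Commute y x from Subgroup.mem_centralizer_singleton_iff.mp hy).zpow_right i).symm
    have hle := hcz.trans (Subgroup.centralizer_le_normalizer _)
    have hPle : (P : Subgroup G) ≤ Subgroup.centralizer ({x} : Set G) := fun y hy =>
      Subgroup.mem_centralizer_singleton_iff.mpr (hcomm P y hy x hx)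
    have hd := Subgroup.card_dvd_of_le hle
    have hd' := Subgroup.card_dvd_of_le hPle
    rw [hN7] at hd
    rw [hc7] at hd'
    by_contra hnot
    have hne : Nat.card (Subgroup.centralizer ({x} : Set G)) ≠ 7 := fun h =>
      hnot (Subgroup.eq_of_le_of_card_ge hPle (by rw [h, hc7]; norm_num)).ge
    have h21 : Nat.card (Subgroup.centralizer ({x} : Set G)) = 21 := by
      have := Nat.le_of_dvd (by norm_num) hd
      interval_cases Nat.card (Subgroup.centralizer ({x} : Set G)) <;> omega
    have heq := Subgroup.eq_of_le_of_card_ge hle (by rw [h21, hN7])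
    exact CfsgLib.DihedralEight.not_normalizer_le_centralizer P (hne7 P).1 (hne7 P).2 (heq ▸ hcz)
  -- there are 28 Sylow 3-subgroups
  obtain ⟨h3a, h3b, h3c, h3d⟩ := CfsgLib.SmallOrder.card_sylow_facts (G := G) (p := 3) (e := 1) (m := 56)
    (by rw [hG]; norm_num) (by norm_num) one_pos (by norm_num)
  have hn3 : Nat.card (Sylow 3 G) = 28 := by
    have hlist : ∀ n ∈ Nat.divisors 56, n % 3 = 1 → n = 1 ∨ n = 4 ∨ n = 7 ∨ n = 28 := by decide +kernel
    rcases hlist _ (Nat.mem_divisors.mpr ⟨h3a, by norm_num⟩) h3b with h | h | h | h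
    · omega
    · exfalso
      rw [h, hG] at h3d
      norm_num [Nat.factorial] at h3d
    · exfalso
      -- all Sylow 3-subgroups lie in every normalizer of a Sylow 7-subgroup
      have hall : ∀ (P : Sylow 7 G) (M : Sylow 3 G),
          (M : Subgroup G) ≤ Subgroup.normalizer ((P : Subgroup G) : Set G) := by
        intro P
        set NP := Subgroup.normalizer ((P : Subgroup G) : Set G) with hNP
        obtain ⟨m, hm⟩ := exists_prime_orderOf_dvd_card' 3 (show 3 ∣ Nat.card NP by rw [hN7]; norm_num)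
        have hpm : IsPGroup 3 (Subgroup.zpowers (m : G)) :=
          IsPGroup.of_card (n := 1) (by rw [Nat.card_zpowers, Subgroup.orderOf_coe, hm, pow_one])
        obtain ⟨M₀, hM₀⟩ := hpm.exists_le_sylow
        have hM₀N : (M₀ : Subgroup G) ≤ NP := by
          rw [← Subgroup.eq_of_le_of_card_ge hM₀ (by rw [hc3, Nat.card_zpowers, Subgroup.orderOf_coe, hm, pow_one])]
          exact Subgroup.zpowers_le.mpr m.2
        have hN3 : Nat.card (Subgroup.normalizer ((M₀ : Subgroup G) : Set G)) = 24 := by
          have := hindex 3 M₀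
          rw [h] at this
          omega
        let F : ↥(P : Subgroup G) → Sylow 3 G := fun y => (y : G) • M₀
        have hinj : Function.Injective F := by
          intro y z hyz
          have h1 : ((z : G)⁻¹ * y) ∈ Subgroup.normalizer ((M₀ : Subgroup G) : Set G) := by
            refine Sylow.smul_eq_iff_mem_normalizer.mp ?_
            rw [mul_smul, inv_smul_eq_iff]
            exact hyz
          have h2 := Subgroup.orderOf_dvd_natCard _ h1
          have h3 := Subgroup.orderOf_dvd_natCard (P : Subgroup G)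
            (Subgroup.mul_mem _ (Subgroup.inv_mem _ z.2) y.2)
          rw [hN3] at h2
          rw [hc7, pow_one] at h3
          have h4 : orderOf ((z : G)⁻¹ * y) = 1 := Nat.dvd_one.mp (Nat.dvd_gcd h2 h3)
          exact (Subtype.ext (inv_mul_eq_one.mp (orderOf_eq_one_iff.mp h4))).symm
        have hbij := (Nat.bijective_iff_injective_and_card F).mpr ⟨hinj, by rw [hc7, pow_one, h]⟩
        intro M
        obtain ⟨y, rfl⟩ := hbij.2 M
        show ((y : G) • M₀ : Sylow 3 G).toSubgroup ≤ NP
        rw [Sylow.coe_subgroup_smul]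
        rintro _ ⟨q, hq, rfl⟩
        exact NP.mul_mem (NP.mul_mem (Subgroup.le_normalizer y.2) (hM₀N hq)) (NP.inv_mem (Subgroup.le_normalizer y.2))
      obtain ⟨P, Q, hPQ⟩ : ∃ P Q : Sylow 7 G, P ≠ Q := by
        haveI : Nontrivial (Sylow 7 G) := Finite.one_lt_card_iff_nontrivial.mp (by omega)
        exact exists_pair_ne _
      obtain ⟨M, M', hMM⟩ : ∃ M M' : Sylow 3 G, M ≠ M' := by
        haveI : Nontrivial (Sylow 3 G) := Finite.one_lt_card_iff_nontrivial.mp (by omega)
        exact exists_pair_ne _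
      set D := Subgroup.normalizer ((P : Subgroup G) : Set G) ⊓ Subgroup.normalizer ((Q : Subgroup G) : Set G)
        with hD
      have hMD : ∀ M : Sylow 3 G, (M : Subgroup G) ≤ D := fun M => le_inf (hall P M) (hall Q M)
      have hd1 := Subgroup.card_dvd_of_le (hMD M)
      have hd2 := Subgroup.card_dvd_of_le (inf_le_left : D ≤ Subgroup.normalizer ((P : Subgroup G) : Set G))
      have hd3 : Nat.card D ≠ 3 := fun h3 => hMM (Sylow.ext (
        (Subgroup.eq_of_le_of_card_ge (hMD M) (by rw [h3, hc3, pow_one])).trans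
        (Subgroup.eq_of_le_of_card_ge (hMD M') (by rw [h3, hc3, pow_one])).symm))
      rw [hN7] at hd2
      rw [hc3, pow_one] at hd1
      have hD21 : Nat.card D = 21 := by
        have := Nat.le_of_dvd (by norm_num) hd2
        interval_cases Nat.card D <;> omega
      have hPD : Subgroup.normalizer ((P : Subgroup G) : Set G) ≤ Subgroup.normalizer ((Q : Subgroup G) : Set G) := by
        rw [← Subgroup.eq_of_le_of_card_ge (inf_le_left : D ≤ _) (by rw [hD21, hN7])]
        exact inf_le_right
      have h1 := P.2.inf_normalizer_sylow Q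
      have h2 : (P : Subgroup G) ≤ Q := fun y hy =>
        (h1.le ⟨hy, hPD (Subgroup.le_normalizer hy)⟩).2
      exact hPQ (Sylow.ext (Subgroup.eq_of_le_of_card_ge h2 (by rw [hc7, hc7])))
    · exact h
  refine (CfsgLib.DihedralEight.exists_psl 7 1 3 hc7 hcomm hcent (by rw [hn7]; norm_num) (by rw [hG]; norm_num)
    (by norm_num) (by norm_num) (fun P M g hM _ _ hgM hg2 hgn => ?_)).imp
      fun F ⟨iF, fF, hF, hiso⟩ => ⟨iF, fF, by rw [hF]; norm_num, hiso⟩
  have h3 : (g * g) ^ 3 = 1 := by
    rw [← Subgroup.coe_mk M (g * g) hg2, ← Subgroup.coe_pow, ← hM, pow_card_eq_one', Subgroup.coe_one]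
  refine ⟨g * g, hg2, by rw [← h3]; simp [pow_succ, mul_assoc], ?_⟩
  set s := g * (g * g) with hs
  have hss : s * s = 1 := by rw [hs, ← h3]; simp [pow_succ, mul_assoc]
  have hs1 : s ∉ M := fun h => hgM (by
    have := M.mul_mem h (M.inv_mem hg2)
    rwa [hs, mul_inv_cancel_right] at this)
  have hsn : ∀ m ∈ M, s * m * s⁻¹ ∈ M := fun m hm => by
    rw [show s * m * s⁻¹ = g * (g * (g * m * g⁻¹) * g⁻¹) * g⁻¹ by rw [hs]; group]
    exact hgn _ (hgn _ (hgn m hm))
  let S : Sylow 3 G := Sylow.ofCard M (by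
    rw [hM, hG, show (168 : ℕ) = 3 ^ 1 * 56 by norm_num, Nat.factorization_mul (by norm_num) (by norm_num),
      Finsupp.add_apply, Nat.Prime.factorization_pow (Fact.out : Nat.Prime 3), Finsupp.single_eq_same,
      Nat.factorization_eq_zero_of_not_dvd (show ¬ 3 ∣ 56 by norm_num)]
    norm_num)
  have hSM : (S : Subgroup G) = M := Sylow.coe_ofCard M _
  refine CfsgLib.DihedralEight.invert_of_fpf M s hss hsn fun m hm hfix => ?_
  by_contra hm1
  haveI : IsCyclic M := isCyclic_of_prime_card (p := 3) hM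
  have hmz : Subgroup.zpowers m = M := by
    refine Subgroup.eq_of_le_of_card_ge (Subgroup.zpowers_le.mpr hm) ?_
    have ho : orderOf m ∣ 3 := hM ▸ Subgroup.orderOf_dvd_natCard M hm
    rcases (Nat.dvd_prime (by norm_num)).mp ho with h | h
    · exact absurd (orderOf_eq_one_iff.mp h) hm1
    · rw [Nat.card_zpowers, h, hM]
  have hsC : s ∈ Subgroup.centralizer ((S : Subgroup G) : Set G) := by
    rw [hSM, Subgroup.mem_centralizer_iff, ← hmz]
    rintro _ ⟨i, rfl⟩
    exact ((show Commute s m from mul_inv_eq_iff_eq_mul.mp hfix).zpow_right i).symm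
  have hMC : (S : Subgroup G) ≤ Subgroup.centralizer ((S : Subgroup G) : Set G) := by
    intro a ha
    rw [hSM] at ha ⊢
    rw [Subgroup.mem_centralizer_iff]
    intro b hb
    let _ : CommGroup M := IsCyclic.commGroup
    exact congrArg Subtype.val (mul_comm (⟨b, hb⟩ : M) ⟨a, ha⟩)
  have hne : (S : Subgroup G) ≠ ⊥ ∧ (S : Subgroup G) ≠ ⊤ := by
    constructor <;> intro h <;> have h' := hc3 S <;> rw [h] at h'
    · rw [Subgroup.card_bot] at h'; norm_num at h'
    · rw [Subgroup.card_top, hG] at h'; norm_num at h'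
  refine CfsgLib.DihedralEight.not_normalizer_le_centralizer S hne.1 hne.2 ?_
  have hd1 := Subgroup.card_dvd_of_le hMC
  have hd2 := Subgroup.card_dvd_of_le (Subgroup.centralizer_le_normalizer ((S : Subgroup G) : Set G))
  have hN := hindex 3 S
  rw [hn3] at hN
  have hne3 : Nat.card (Subgroup.centralizer ((S : Subgroup G) : Set G)) ≠ 3 := fun h => hs1 (by
    rw [← hSM, Subgroup.eq_of_le_of_card_ge hMC (by rw [h, hc3]; norm_num)]
    exact hsC)
  rw [hc3, pow_one] at hd1
  rw [show Nat.card (Subgroup.normalizer ((S : Subgroup G) : Set G)) = 6 by omega] at hd2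
  have h6 : Nat.card (Subgroup.centralizer ((S : Subgroup G) : Set G)) = 6 := by
    have := Nat.le_of_dvd (by norm_num) hd2
    interval_cases Nat.card (Subgroup.centralizer ((S : Subgroup G) : Set G)) <;> omega
  rw [← Subgroup.eq_of_le_of_card_ge (Subgroup.centralizer_le_normalizer ((S : Subgroup G) : Set G))
    (by omega)]

/-- A simple group of order 168 is `PSL(3,2)`. -/
theorem psl_three_two_of_card_168 (hG : Nat.card G = 168) {K : Type*} [Field K] [Fintype K]
    (hK : Fintype.card K = 2) : Nonempty (G ≃* Matrix.ProjectiveSpecialLinearGroup (Fin 3) K) := by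
  obtain ⟨F, _, _, hF, ⟨e⟩⟩ := exists_psl_of_card_168 hG
  exact (CfsgLib.Linear.PSL2Seven.exists_PSL2_equiv_PSL3 hF hK).map e.trans

/-- A simple group of order 168 is `SL(3,2)`. -/
theorem sl_three_two_of_card_168 (hG : Nat.card G = 168) :
    Nonempty (G ≃* Matrix.SpecialLinearGroup (Fin 3) (ZMod 2)) := by
  obtain ⟨F, _, _, hF, ⟨e⟩⟩ := exists_psl_of_card_168 hG
  obtain ⟨e'⟩ := CfsgLib.Linear.PSL2Seven.exists_PSL2_equiv_PSL3 (K := ZMod 2) hF (ZMod.card 2)
  have hc : Subgroup.center (Matrix.SpecialLinearGroup (Fin 3) (ZMod 2)) = ⊥ := by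
    rw [← Subgroup.card_eq_one, CfsgLib.Linear.card_center_SL, ZMod.card]
    rfl
  exact ⟨e.trans (e'.trans ((QuotientGroup.quotientMulEquivOfEq hc).trans QuotientGroup.quotientBot))⟩

end CfsgLib.AltEight
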