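import Cfsg.Agent.Lib.AltEight.Degree
import Cfsg.Agent.Lib.AltEight.OrderOneSixtyEight
import Cfsg.Agent.Lib.Solvable.Core

/-!
# Nonsolvable subgroups of `A₈` without normal 2-subgroups
-/

set_option autoImplicit false
set_option linter.style.haveILetI false
set_option linter.unusedSectionVars false
set_option maxHeartbeats 1000000

namespace CfsgLib.AltEight

open Equiv Equiv.Perm MulAction

theorem exists_normal_pgroup {G : Type*} [Group G] [Finite G] (N : Subgroup G) (hN : N.Normal)
    (hs : Group.IsSolvable N) (hne : N ≠ ⊥) :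
    ∃ (p : ℕ) (E : Subgroup G), p.Prime ∧ E.Normal ∧ E ≤ N ∧ E ≠ ⊥ ∧ IsPGroup p E := by
  obtain ⟨m, hm⟩ : ∃ m, Nat.card N = m := ⟨_, rfl⟩
  induction m using Nat.strong_induction_on generalizing N with
  | _ m ih =>
    haveI := hN
    by_cases hc : (⁅N, N⁆ : Subgroup G) = ⊥
    · haveI : Nontrivial N := (Subgroup.nontrivial_iff_ne_bot N).mpr hne
      obtain ⟨p, hp, hpd⟩ := Nat.exists_prime_and_dvd (n := Nat.card N)
        (by have := Finite.one_lt_card (α := N); omega)
      haveI : Fact p.Prime := ⟨hp⟩
      have hcomm : ∀ a ∈ N, ∀ b ∈ N, Commute a b := fun a ha b hb =>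
        commutatorElement_eq_one_iff_commute.mp
          (Subgroup.mem_bot.mp (hc ▸ Subgroup.commutator_mem_commutator ha hb))
      let E : Subgroup G :=
        { carrier := {a | a ∈ N ∧ a ^ p = 1}
          one_mem' := ⟨N.one_mem, one_pow p⟩
          mul_mem' := fun {a b} ha hb => ⟨N.mul_mem ha.1 hb.1, by
            rw [(hcomm a ha.1 b hb.1).mul_pow, ha.2, hb.2, one_mul]⟩
          inv_mem' := fun {a} ha => ⟨N.inv_mem ha.1, by rw [inv_pow, ha.2, inv_one]⟩ }
      refine ⟨p, E, hp, ⟨fun a ha g => ⟨hN.conj_mem a ha.1 g, by rw [conj_pow, ha.2, mul_one, mul_inv_cancel]⟩⟩,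
        fun a ha => ha.1, ?_, ?_⟩
      · obtain ⟨⟨z, hz⟩, hzo⟩ := exists_prime_orderOf_dvd_card' p hpd
        rw [← Subgroup.orderOf_coe] at hzo
        change orderOf z = p at hzo
        intro h
        have : z ∈ E := ⟨hz, hzo ▸ pow_orderOf_eq_one z⟩
        rw [h, Subgroup.mem_bot] at this
        rw [this, orderOf_one] at hzo
        exact hp.one_lt.ne hzo
      · intro ⟨a, ha⟩
        exact ⟨1, Subtype.ext (by simpa using ha.2)⟩
    · have hlt : (⁅N, N⁆ : Subgroup G) < N := by
        refine lt_of_le_of_ne (Subgroup.commutator_le_left N N) fun h => ?_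
        haveI := hs
        haveI : Nontrivial N := (Subgroup.nontrivial_iff_ne_bot N).mpr hne
        have h1 := Group.IsSolvable.commutator_lt_top_of_nontrivial N
        have h2 : Subgroup.map N.subtype (commutator N) = (⁅N, N⁆ : Subgroup G) := by
          rw [commutator_def, Subgroup.map_commutator, ← MonoidHom.range_eq_map, Subgroup.range_subtype]
        refine h1.ne ?_
        apply Subgroup.map_injective N.subtype_injective
        rw [h2, h, ← MonoidHom.range_eq_map, Subgroup.range_subtype]
      have hlt' : Nat.card (⁅N, N⁆ : Subgroup G) < m := by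
        by_contra hge
        push Not at hge
        exact hlt.ne (Subgroup.eq_of_le_of_card_ge hlt.le (hm.le.trans hge))
      haveI := hs
      obtain ⟨p, E, hp, hEn, hEle, hE, hEp⟩ := ih _ hlt' (⁅N, N⁆ : Subgroup G) inferInstance
        (Group.isSolvable_of_isSolvable_injective (Subgroup.inclusion_injective hlt.le)) hc rfl
      exact ⟨p, E, hp, hEn, hEle.trans hlt.le, hE, hEp⟩

theorem card_orbit_mul (H : Subgroup (Perm (Fin 8))) (a : Fin 8) :
    Nat.card (orbit H a) * Nat.card (stabilizer H a) = Nat.card H := by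
  rw [Nat.card_coe_set_eq, ← index_stabilizer, Subgroup.index_mul_card]

/-- For a big orbit the solvable normal subgroups have order divisible by seven. -/
theorem solvable_normal_seven (H : Subgroup (Perm (Fin 8)))
    (hO2 : ∀ N : Subgroup H, N.Normal → IsPGroup 2 N → N = ⊥) (y : Fin 8) (hd : 7 ≤ Nat.card (orbit H y)) :
    ∀ N : Subgroup H, N.Normal → Group.IsSolvable N → N = ⊥ ∨ 7 ∣ Nat.card N := by
  classical
  intro N hN hs
  by_contra hcon
  push Not at hcon
  obtain ⟨p, E, hp, hEn, hEle, hE, hEp⟩ := exists_normal_pgroup N hN hs hcon.1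
  haveI : Fact p.Prime := ⟨hp⟩
  have hp2 : p ≠ 2 := fun h => hE (hO2 E hEn (h ▸ hEp))
  have hp7 : p ≠ 7 := fun h => hcon.2 (by
    subst h
    obtain ⟨k, hk⟩ := IsPGroup.iff_card.mp hEp
    rcases k with _ | k
    · exact absurd (Subgroup.card_eq_one.mp (by simpa using hk)) hE
    · exact (Dvd.intro_left (7 ^ k) (by rw [hk, pow_succ])).trans (Subgroup.card_dvd_of_le hEle))
  have hndvd : ¬ p ∣ Nat.card (orbit H y) := by
    intro h
    have h8 : Nat.card (orbit H y) ≤ 8 := (Finite.card_subtype_le _).trans (by simp)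
    have hp' := Nat.le_of_dvd (by omega) h
    interval_cases hc : Nat.card (orbit H y)
    · exact hp7 ((Nat.prime_dvd_prime_iff_eq hp (by norm_num)).mp h)
    · exact hp2 ((Nat.prime_dvd_prime_iff_eq hp Nat.prime_two).mp (hp.dvd_of_dvd_pow (show p ∣ 2 ^ 3 from h)))
  rw [Nat.card_coe_set_eq, ← index_stabilizer] at hndvd
  obtain ⟨Q⟩ : Nonempty (Sylow p (stabilizer H y)) := inferInstance
  have hndvd' : ¬ p ∣ ((Q : Subgroup (stabilizer H y)).map (stabilizer H y).subtype).index := by
    rw [Subgroup.index_map_subtype]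
    exact hp.not_dvd_mul Q.not_dvd_index hndvd
  let S : Sylow p H := (Q.isPGroup'.map (stabilizer H y).subtype).toSylow hndvd'
  have hES : E ≤ stabilizer H y :=
    (IsPGroup.le_sylow_of_normal (N := E) hEp S).trans (Subgroup.map_subtype_le _)
  have hfix : ∀ e ∈ E, ∀ z ∈ orbit H y, (e : Perm (Fin 8)) z = z := by
    intro e he z hz
    obtain ⟨h, rfl⟩ := hz
    have h1 : (h⁻¹ * e * h) • y = y := hES (by simpa using hEn.conj_mem e he h⁻¹)
    rw [mul_smul, mul_smul, inv_smul_eq_iff] at h1
    exact h1
  apply hE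
  rw [Subgroup.eq_bot_iff_forall]
  intro e he
  apply Subtype.ext
  have hsupp : (e : Perm (Fin 8)).support ⊆ (orbit H y).toFinsetᶜ := by
    intro z hz
    rw [Finset.mem_compl, Set.mem_toFinset]
    exact fun hzo => mem_support.mp hz (hfix e he z hzo)
  have hc := Finset.card_le_card hsupp
  rw [Finset.card_compl, Fintype.card_fin, ← Set.ncard_eq_toFinset_card', ← Nat.card_coe_set_eq] at hc
  exact card_support_le_one.mp (by omega)

theorem lt_card_of_not_solvable {G : Type*} [Group G] [Finite G] (h7 : 7 ∣ Nat.card G)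
    (hns : ¬ Group.IsSolvable G) : 21 < Nat.card G := by
  by_contra h
  push Not at h
  apply hns
  obtain ⟨j, hj⟩ := h7
  have hj3 : j ≤ 3 := by omega
  have hpos : 0 < Nat.card G := Nat.card_pos
  have key : ∀ {p q a b : ℕ}, p.Prime → q.Prime → Nat.card G = p ^ a * q ^ b → Group.IsSolvable G :=
    fun hp hq e => CfsgLib.Char.isSolvable_of_card_eq_prime_pow_mul hp hq e
  interval_cases j
  · omega
  · exact key (p := 7) (q := 2) (a := 1) (b := 0) (by norm_num) Nat.prime_two hj
  · exact key (p := 7) (q := 2) (a := 1) (b := 1) (by norm_num) Nat.prime_two hj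
  · exact key (p := 7) (q := 3) (a := 1) (b := 1) (by norm_num) Nat.prime_three hj

theorem orbit_invariant (H : Subgroup (Perm (Fin 8))) (y : Fin 8) :
    ∀ g ∈ H, ∀ x, g x ∈ orbit H y ↔ x ∈ orbit H y := by
  intro g hg x
  constructor
  · rintro ⟨h, hh⟩
    exact ⟨(⟨g, hg⟩ : H)⁻¹ * h, (mul_smul _ h y).trans (inv_smul_eq_iff.mpr hh)⟩
  · rintro ⟨h, rfl⟩
    exact ⟨(⟨g, hg⟩ : H) * h, mul_smul _ h y⟩

theorem isSolvable_bound {G : Type*} [Group G] [Finite G] [IsSimpleGroup G] (h7 : 7 ∣ Nat.card G)
    (hs : Group.IsSolvable G) : Nat.card G = 7 := by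
  haveI : IsMulCommutative G := ⟨⟨IsSimpleGroup.comm_iff_isSolvable.2 hs⟩⟩
  let _ : CommGroup G := { ‹Group G› with mul_comm := IsSimpleGroup.comm_iff_isSolvable.2 hs }
  have hp := IsSimpleGroup.prime_card (α := G)
  exact ((Nat.prime_dvd_prime_iff_eq (by norm_num) hp).mp h7).symm

/-- With an orbit of size seven, the group embeds into `A₇`. -/
theorem degree_seven_embedding (H : Subgroup (Perm (Fin 8))) (hA : H ≤ alternatingGroup (Fin 8))
    (y : Fin 8) (hy : Nat.card (orbit H y) = 7) :
    ∃ f : H →* alternatingGroup (Fin 7), Function.Injective f := by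
  classical
  have hp := orbit_invariant H y
  let p : Fin 8 → Prop := fun x => x ∈ orbit H y
  have hfix : ∀ (g : H) (x : Fin 8), ¬ p x → (g : Perm (Fin 8)) x = x := by
    intro g x hx
    by_contra hne
    have h1 : Finset.card {x, (g : Perm (Fin 8)) x} ≤ ((orbit H y).toFinsetᶜ).card := by
      refine Finset.card_le_card fun w hw => ?_
      rw [Finset.mem_compl, Set.mem_toFinset]
      simp only [Finset.mem_insert, Finset.mem_singleton] at hw
      rcases hw with rfl | rfl
      · exact hx
      · exact fun h => hx ((hp g g.2 x).mp h)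
    rw [Finset.card_pair (Ne.symm hne), Finset.card_compl, ← Set.ncard_eq_toFinset_card',
      ← Nat.card_coe_set_eq, hy, Fintype.card_fin] at h1
    omega
  let ρ := restrictHom H p hp
  have hsign : ∀ g, ρ g ∈ alternatingGroup {x // p x} := fun g => by
    rw [mem_alternatingGroup]
    refine (sign_subtypePerm _ (hp g g.2) fun x hx => ?_).trans (mem_alternatingGroup.mp (hA g.2))
    by_contra hxp
    exact hx (hfix g x hxp)
  have hinj : Function.Injective ρ := by
    rw [injective_iff_map_eq_one]
    intro g hg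
    apply Subtype.ext
    refine Equiv.ext fun x => ?_
    by_cases hx : p x
    · exact (restrictHom_eq_one_iff H p hp g).mp hg x hx
    · exact hfix g x hx
  let e : {x // p x} ≃ Fin 7 := Finite.equivFinOfCardEq hy
  exact ⟨(Equiv.altCongrHom e).toMonoidHom.comp (ρ.codRestrict _ hsign),
    (Equiv.altCongrHom e).injective.comp fun a b h => hinj (congrArg Subtype.val h)⟩

/-- Orbit of size seven. -/
theorem degree_seven (H : Subgroup (Perm (Fin 8))) (hA : H ≤ alternatingGroup (Fin 8))
    (y : Fin 8) (hy : Nat.card (orbit H y) = 7) (h21 : 21 < Nat.card H)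
    (hO2 : ∀ N : Subgroup H, N.Normal → IsPGroup 2 N → N = ⊥) :
    IsSimpleGroup H ∧ (Nat.card H = 168 ∨ Nat.card H = 2520 ∧ Nonempty (H ≃* alternatingGroup (Fin 7))) := by
  classical
  have h7 : 7 ∣ Nat.card H := hy ▸ Dvd.intro _ (card_orbit_mul H y)
  obtain ⟨hs, hcard⟩ := core H hA h7 h21 (solvable_normal_seven H hO2 y hy.ge)
  refine ⟨hs, ?_⟩
  have hp := orbit_invariant H y
  rcases hcard with h | h | h | h | h
  · exact Or.inl h
  · exfalso
    haveI := hs
    exact CfsgLib.SmallOrder.card_ne_of_orderExcluded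
      (fun hc => by
        have := IsSimpleGroup.comm_iff_isSolvable.1 hc.is_comm.comm
        have h1 := isSolvable_bound h7 this
        omega)
      (show CfsgLib.SmallOrder.orderExcluded 315 = true by decide +kernel) h
  all_goals
    have hin := degree_seven_embedding H hA y hy
    obtain ⟨f, hf⟩ := hin
    have hd := Subgroup.card_dvd_of_injective f hf
    rw [h, nat_card_alternatingGroup, Nat.card_fin, show Nat.factorial 7 / 2 = 2520 from rfl] at hd
  · norm_num at hd
  · refine Or.inr ⟨h, ⟨MulEquiv.ofBijective f ((Nat.bijective_iff_injective_and_card f).mpr ⟨hf, ?_⟩)⟩⟩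
    rw [h, nat_card_alternatingGroup, Nat.card_fin]
    rfl
  · norm_num at hd

/-- Even groups of transitive degree eight. -/
theorem five_forces_seven (H : Subgroup (Perm (Fin 8))) (htr : ∀ a b : Fin 8, ∃ h ∈ H, h a = b)
    (h5 : 5 ∣ Nat.card H) : 7 ∣ Nat.card H := by
  classical
  by_contra h7
  haveI : Fact (Nat.Prime 5) := ⟨by norm_num⟩
  obtain ⟨x, hxo⟩ := exists_prime_orderOf_dvd_card' 5 h5
  rw [← Subgroup.orderOf_coe] at hxo
  have hct := cycleType_of_order (p := 5) (by norm_num) (by norm_num) hxo
  have hcyc : (x : Perm (Fin 8)).IsCycle := card_cycleType_eq_one.mp (by rw [hct]; rfl)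
  set F := (x : Perm (Fin 8)).support with hF
  have hFc : F.card = 5 := by rw [hF, ← sum_cycleType, hct]; rfl
  have hout : ∀ z, z ∉ F → (x : Perm (Fin 8)) z = z := fun z hz => notMem_support.mp hz
  obtain ⟨y, hyF⟩ : ∃ y, y ∈ F := Finset.card_pos.mp (by omega)
  -- data attached to a fixed point
  let R : Fin 8 → Subgroup H := fun a => stabilizer H a
  have hxR : ∀ a, a ∉ F → x ∈ R a := fun a ha => hout a ha
  have hRcard : ∀ a, 8 * Nat.card (R a) = Nat.card H := by
    intro a
    rw [← card_orbit_mul H a]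
    congr 1
    have : orbit H a = Set.univ := Set.eq_univ_of_forall fun b => by
      obtain ⟨h, hh, hb⟩ := htr a b
      exact ⟨⟨h, hh⟩, hb⟩
    rw [this, Nat.card_coe_set_eq, Set.ncard_univ, Nat.card_fin]
  have hReq : ∀ a b, R a ≤ R b → R a = R b := fun a b h =>
    Subgroup.eq_of_le_of_card_ge h (by have := hRcard a; have := hRcard b; omega)
  have hFO : ∀ a, a ∉ F → ∀ z ∈ F, z ∈ orbit (R a) y := by
    intro a ha z hz
    obtain ⟨i, hi⟩ := hcyc.sameCycle (mem_support.mp hyF) (mem_support.mp hz)
    exact ⟨⟨x ^ i, zpow_mem (hxR a ha) i⟩, by rw [← hi]; simp [Subgroup.smul_def, Perm.smul_def]⟩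
  have hother : ∀ a, a ∉ F → Finset.card (Fᶜ.erase a) = 2 := by
    intro a ha
    rw [Finset.card_erase_of_mem (Finset.mem_compl.mpr ha), Finset.card_compl, hFc, Fintype.card_fin]
  by_cases hsix : ∃ a, a ∉ F ∧ ∃ c, c ∉ F ∧ c ∈ orbit (R a) y
  · obtain ⟨a, ha, c, hc, hcO⟩ := hsix
    have haO : a ∉ orbit (R a) y := by
      rintro ⟨r, hr⟩
      have h1 : (r : H) • a = a := r.2
      have h2 : (r : H) • y = (r : H) • a := hr.trans h1.symm
      exact ha (MulAction.injective (r : H) h2 ▸ hyF)
    have hca : c ≠ a := fun h => haO (h ▸ hcO)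
    obtain ⟨b, hb, hbc⟩ : ∃ b ∈ Fᶜ.erase a, b ≠ c :=
      Finset.exists_mem_ne (by rw [hother a ha]; norm_num) c
    obtain ⟨hba, hbF⟩ := Finset.mem_erase.mp hb
    rw [Finset.mem_compl] at hbF
    have hbO : b ∉ orbit (R a) y := by
      intro hbO
      have hsub : (Finset.univ.erase a) ⊆ (orbit (R a) y).toFinset := by
        intro z hz
        rw [Set.mem_toFinset]
        by_cases hzF : z ∈ F
        · exact hFO a ha z hzF
        · have hz2 : z ∈ ({b, c} : Finset (Fin 8)) := by
            have he : ({b, c} : Finset (Fin 8)) = Fᶜ.erase a := Finset.eq_of_subset_of_card_le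
              (by
                intro w hw
                simp only [Finset.mem_insert, Finset.mem_singleton] at hw
                rcases hw with rfl | rfl
                · exact hb
                · exact Finset.mem_erase.mpr ⟨hca, Finset.mem_compl.mpr hc⟩)
              (by rw [hother a ha, Finset.card_pair hbc])
            rw [he]
            exact Finset.mem_erase.mpr ⟨Finset.ne_of_mem_erase hz, Finset.mem_compl.mpr hzF⟩
          simp only [Finset.mem_insert, Finset.mem_singleton] at hz2
          rcases hz2 with rfl | rfl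
          exacts [hbO, hcO]
      have hle := Finset.card_le_card hsub
      have hlt : ((orbit (R a) y).toFinset).card ≤ 7 := by
        have h2 : (orbit (R a) y).toFinset ⊆ Finset.univ.erase a := fun z hz =>
          Finset.mem_erase.mpr ⟨fun h => by subst h; exact haO (Set.mem_toFinset.mp hz), Finset.mem_univ _⟩
        exact (Finset.card_le_card h2).trans (by rw [Finset.card_erase_of_mem (Finset.mem_univ a)]; simp)
      rw [Finset.card_erase_of_mem (Finset.mem_univ a), Finset.card_univ, Fintype.card_fin] at hle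
      have h7' : Nat.card (orbit (R a) y) = 7 := by
        rw [Nat.card_coe_set_eq, Set.ncard_eq_toFinset_card']; omega
      have hd : Nat.card (orbit (R a) y) ∣ Nat.card (R a) := by
        rw [Nat.card_coe_set_eq, ← index_stabilizer]
        exact Subgroup.index_dvd_card _
      rw [h7'] at hd
      exact h7 (hd.trans (Subgroup.card_subgroup_dvd_card (R a)))
    -- the stabilizer of `a` also fixes `b`
    have hab : R a ≤ R b := by
      intro r hr
      by_contra hrb
      apply hbO
      have h1 : (r : H) • b ≠ b := hrb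
      have h2 : r • b ≠ a := fun h => hba (MulAction.injective r (h.trans hr.symm))
      have h3 : r • b ∈ orbit (R a) y := by
        by_cases hF' : r • b ∈ F
        · exact hFO a ha _ hF'
        · have hz2 : r • b = c := by
            by_contra hne
            have : ({r • b, b, c} : Finset (Fin 8)) ⊆ Fᶜ.erase a := by
              intro w hw
              simp only [Finset.mem_insert, Finset.mem_singleton] at hw
              rcases hw with rfl | rfl | rfl
              · exact Finset.mem_erase.mpr ⟨h2, Finset.mem_compl.mpr hF'⟩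
              · exact hb
              · exact Finset.mem_erase.mpr ⟨hca, Finset.mem_compl.mpr hc⟩
            have h3 := Finset.card_le_card this
            rw [hother a ha, Finset.card_eq_three.mpr ⟨_, _, _, h1, hne, hbc, rfl⟩] at h3
            omega
          rw [hz2]; exact hcO
      obtain ⟨s, hs⟩ := h3
      exact ⟨(⟨r, hr⟩ : R a)⁻¹ * s, (mul_smul _ s y).trans ((congrArg _ hs).trans (inv_smul_smul r b))⟩
    have hRab := hReq a b hab
    obtain ⟨g, hg, hgac⟩ := htr a c
    set d := g b with hd
    have hdc : d ≠ c := fun h => hba (g.injective (h.trans hgac.symm))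
    have hRcd : R c ≤ R d := by
      intro r hr
      have h1 : (⟨g, hg⟩ : H)⁻¹ * r * ⟨g, hg⟩ ∈ R a := by
        show ((⟨g, hg⟩ : H)⁻¹ * r * ⟨g, hg⟩) • a = a
        rw [mul_smul, mul_smul, show (⟨g, hg⟩ : H) • a = c from hgac, show r • c = c from hr,
          inv_smul_eq_iff]
        exact hgac.symm
      have h2 : ((⟨g, hg⟩ : H)⁻¹ * r * ⟨g, hg⟩) • b = b := hab h1
      rw [mul_smul, mul_smul, inv_smul_eq_iff] at h2
      exact h2
    have hdF : d ∉ F := fun h => (mem_support.mp h) (hRcd (hxR c hc))
    have hdab : d = a ∨ d = b := by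
      by_contra hne
      push Not at hne
      have : ({d, b, c} : Finset (Fin 8)) ⊆ Fᶜ.erase a := by
        intro w hw
        simp only [Finset.mem_insert, Finset.mem_singleton] at hw
        rcases hw with rfl | rfl | rfl
        · exact Finset.mem_erase.mpr ⟨hne.1, Finset.mem_compl.mpr hdF⟩
        · exact hb
        · exact Finset.mem_erase.mpr ⟨hca, Finset.mem_compl.mpr hc⟩
      have h3 := Finset.card_le_card this
      rw [hother a ha, Finset.card_eq_three.mpr ⟨_, _, _, hne.2, hdc, hbc, rfl⟩] at h3
      omega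
    have hRca : R c = R a := by
      have h := hReq c d hRcd
      rcases hdab with h' | h' <;> rw [h, h']
      exact hRab.symm
    obtain ⟨r, hr⟩ := hcO
    have h1 : (r : H) • c = c := by
      have h2 : (r : H) ∈ R c := hRca.symm ▸ r.2
      exact h2
    have h2 : y = c := MulAction.injective (r : H) (hr.trans h1.symm)
    exact hc (h2 ▸ hyF)
  · push Not at hsix
    have hRF : ∀ a, a ∉ F → ∀ r ∈ R a, ∀ z ∈ F, (r : H) • z ∈ F := by
      intro a ha r hr z hz
      by_contra h
      apply hsix a ha _ h
      obtain ⟨s, hs⟩ := hFO a ha z hz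
      exact ⟨(⟨r, hr⟩ : R a) * s, (mul_smul _ s y).trans (congrArg _ hs)⟩
    let K : Subgroup H :=
      { carrier := {h | ∀ z, h • z ∈ F ↔ z ∈ F}
        one_mem' := fun z => by rw [one_smul]
        mul_mem' := fun {g h} hg hh z => by rw [mul_smul]; exact (hg _).trans (hh z)
        inv_mem' := fun {g} hg z => by
          have := hg (g⁻¹ • z)
          rw [smul_inv_smul] at this
          exact this.symm }
    have hRK : ∀ a, a ∉ F → R a ≤ K := fun a ha r hr z => by
      refine ⟨fun h => ?_, hRF a ha r hr z⟩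
      have := hRF a ha r⁻¹ (inv_mem hr) _ h
      rwa [inv_smul_smul] at this
    have hKdvd : ∀ a, a ∉ F → Nat.card (orbit K a) ≤ 2 := by
      intro a ha
      have h1 : Nat.card (stabilizer K a) = Nat.card (R a) := by
        rw [← Subgroup.card_map_of_injective (f := K.subtype) K.subtype_injective]
        congr 2
        ext h
        simp only [Subgroup.mem_map, mem_stabilizer_iff]
        exact ⟨by rintro ⟨k, hk, rfl⟩; exact hk, fun h' => ⟨⟨h, hRK a ha h'⟩, h', rfl⟩⟩
      have h2 : Nat.card (orbit K a) * Nat.card (R a) = Nat.card K := by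
        rw [← h1, Nat.card_coe_set_eq, ← index_stabilizer, Subgroup.index_mul_card]
      have h3 : Nat.card (orbit K a) ∣ 8 := by
        refine Nat.dvd_of_mul_dvd_mul_right (Nat.card_pos (α := R a)) ?_
        rw [h2, hRcard a]
        exact Subgroup.card_subgroup_dvd_card K
      have h4 : Nat.card (orbit K a) ≤ 3 := by
        have hsub : (orbit K a).toFinset ⊆ Fᶜ := by
          intro z hz
          obtain ⟨k, rfl⟩ := Set.mem_toFinset.mp hz
          exact Finset.mem_compl.mpr fun h => ha ((k.2 a).mp h)
        have h5 := Finset.card_le_card hsub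
        rw [Finset.card_compl, hFc, Fintype.card_fin] at h5
        rw [Nat.card_coe_set_eq, Set.ncard_eq_toFinset_card']
        exact h5
      have h5 := Nat.le_of_dvd (by norm_num) h3
      generalize Nat.card (orbit K a) = n at *
      interval_cases n <;> omega
    obtain ⟨t, htF, htfix⟩ : ∃ t, t ∉ F ∧ ∀ k ∈ K, k • t = t := by
      by_contra hall
      push Not at hall
      obtain ⟨a, ha⟩ : ∃ a, a ∈ Fᶜ := Finset.card_pos.mp (by rw [Finset.card_compl, hFc]; simp)
      rw [Finset.mem_compl] at ha
      obtain ⟨k, hk, hka⟩ := hall a ha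
      have haF' : k • a ∉ F := fun h => ha ((hk a).mp h)
      obtain ⟨t, ht, hta⟩ : ∃ t ∈ Fᶜ.erase a, t ≠ k • a :=
        Finset.exists_mem_ne (by rw [hother a ha]; norm_num) _
      obtain ⟨hta', htF⟩ := Finset.mem_erase.mp ht
      rw [Finset.mem_compl] at htF
      obtain ⟨l, hl, hlt⟩ := hall t htF
      have hlF : l • t ∉ F := fun h => htF ((hl t).mp h)
      have hlcases : l • t = a ∨ l • t = k • a := by
        by_contra hne
        push Not at hne
        have : ({l • t, k • a, t} : Finset (Fin 8)) ⊆ Fᶜ.erase a := by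
          intro w hw
          simp only [Finset.mem_insert, Finset.mem_singleton] at hw
          rcases hw with rfl | rfl | rfl
          · exact Finset.mem_erase.mpr ⟨hne.1, Finset.mem_compl.mpr hlF⟩
          · exact Finset.mem_erase.mpr ⟨hka, Finset.mem_compl.mpr haF'⟩
          · exact ht
        have h3 := Finset.card_le_card this
        rw [hother a ha, Finset.card_eq_three.mpr ⟨_, _, _, hne.2, hlt, hta.symm, rfl⟩] at h3
        omega
      have hsub : ({a, k • a, t} : Finset (Fin 8)) ⊆ (orbit K a).toFinset := by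
        intro w hw
        simp only [Finset.mem_insert, Finset.mem_singleton] at hw
        rw [Set.mem_toFinset]
        rcases hw with rfl | rfl | rfl
        · exact mem_orbit_self _
        · exact ⟨⟨k, hk⟩, rfl⟩
        · rcases hlcases with h | h
          · exact ⟨(⟨l, hl⟩ : K)⁻¹, inv_smul_eq_iff.mpr h.symm⟩
          · exact ⟨(⟨l, hl⟩ : K)⁻¹ * ⟨k, hk⟩, (mul_smul _ _ a).trans (inv_smul_eq_iff.mpr h.symm)⟩
      have h3 := Finset.card_le_card hsub
      rw [Finset.card_eq_three.mpr ⟨_, _, _, Ne.symm hka, hta'.symm, hta.symm, rfl⟩,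
        ← Set.ncard_eq_toFinset_card', ← Nat.card_coe_set_eq] at h3
      have := hKdvd a ha
      omega
    have hall : ∀ a, a ∉ F → R a = R t := fun a ha =>
      hReq a t fun r hr => htfix r (hRK a ha hr)
    obtain ⟨b, hb⟩ : ∃ b, b ∈ Fᶜ.erase t := Finset.card_pos.mp (by rw [hother t htF]; norm_num)
    obtain ⟨hbt, hbF⟩ := Finset.mem_erase.mp hb
    rw [Finset.mem_compl] at hbF
    obtain ⟨g, hg, hgt⟩ := htr t b
    have hgK : (⟨g, hg⟩ : H) ∈ K := by
      have h1 : ∀ z, z ∉ F → g z ∉ F := by
        intro z hz hgz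
        apply mem_support.mp hgz
        have h2 : (⟨g, hg⟩ : H)⁻¹ * x * ⟨g, hg⟩ ∈ R t := by
          show ((⟨g, hg⟩ : H)⁻¹ * x * ⟨g, hg⟩) • t = t
          rw [mul_smul, mul_smul, show (⟨g, hg⟩ : H) • t = b from hgt, show x • b = b from hxR b hbF,
            inv_smul_eq_iff]
          exact hgt.symm
        rw [← hall z hz] at h2
        have h3 : ((⟨g, hg⟩ : H)⁻¹ * x * ⟨g, hg⟩) • z = z := h2
        rw [mul_smul, mul_smul, inv_smul_eq_iff] at h3
        exact h3
      have h2 : Fᶜ.image g = Fᶜ := by
        refine Finset.eq_of_subset_of_card_le ?_ (by rw [Finset.card_image_of_injective _ g.injective])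
        intro w hw
        obtain ⟨z, hz, rfl⟩ := Finset.mem_image.mp hw
        exact Finset.mem_compl.mpr (h1 z (Finset.mem_compl.mp hz))
      intro z
      refine ⟨fun h => by_contra fun hz => h1 z hz h, fun hz => by_contra fun h => ?_⟩
      have : (⟨g, hg⟩ : H) • z ∈ Fᶜ.image g := h2.symm ▸ Finset.mem_compl.mpr h
      obtain ⟨w, hw, hwz⟩ := Finset.mem_image.mp this
      exact Finset.mem_compl.mp hw (g.injective hwz ▸ hz)
    exact hbt (hgt.symm.trans (htfix _ hgK))

/-- Transitive groups on eight points. -/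
theorem degree_eight (H : Subgroup (Perm (Fin 8))) (hA : H ≤ alternatingGroup (Fin 8))
    (y : Fin 8) (hy : Nat.card (orbit H y) = 8) (hns : ¬ Group.IsSolvable H)
    (hO2 : ∀ N : Subgroup H, N.Normal → IsPGroup 2 N → N = ⊥) :
    IsSimpleGroup H ∧ (Nat.card H = 168 ∨ H = alternatingGroup (Fin 8)) := by
  classical
  have hall : orbit H y = Set.univ := Set.eq_univ_of_forall fun z => by
    by_contra hz
    have : Nat.card (orbit H y) < Nat.card (Fin 8) := Finite.card_subtype_lt hz
    rw [hy, Nat.card_fin] at this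
    omega
  have htr : ∀ a b : Fin 8, ∃ h ∈ H, h a = b := fun a b => by
    obtain ⟨r, hr⟩ : a ∈ orbit H y := hall ▸ Set.mem_univ _
    obtain ⟨s, hs⟩ : b ∈ orbit H y := hall ▸ Set.mem_univ _
    exact ⟨_, (s * r⁻¹).2, show (s * r⁻¹) • a = b by rw [mul_smul, inv_smul_eq_iff.mpr hr.symm]; exact hs⟩
  have h7 : 7 ∣ Nat.card H := by
    by_contra h7
    refine hns (CfsgLib.Char.isSolvable_of_two_primes 2 3 Nat.prime_two Nat.prime_three _ H rfl
      fun r hr hdr => ?_)
    have hr' : r ∣ 2 ^ 6 * 3 ^ 2 * 5 * 7 := hdr.trans (card_dvd H hA)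
    rcases (Nat.Prime.dvd_mul hr).mp hr' with h | h
    · rcases (Nat.Prime.dvd_mul hr).mp h with h | h
      · rcases (Nat.Prime.dvd_mul hr).mp h with h | h
        · exact Or.inl ((Nat.prime_dvd_prime_iff_eq hr Nat.prime_two).mp (hr.dvd_of_dvd_pow h))
        · exact Or.inr ((Nat.prime_dvd_prime_iff_eq hr Nat.prime_three).mp (hr.dvd_of_dvd_pow h))
      · rw [(Nat.prime_dvd_prime_iff_eq hr (by norm_num)).mp h] at hdr
        exact absurd (five_forces_seven H htr hdr) h7
    · rw [(Nat.prime_dvd_prime_iff_eq hr (by norm_num)).mp h] at hdr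
      exact absurd hdr h7
  obtain ⟨hs, hcard⟩ := core H hA h7 (lt_card_of_not_solvable h7 hns) (solvable_normal_seven H hO2 y (by omega))
  refine ⟨hs, ?_⟩
  have h8 : 8 ∣ Nat.card H := Dvd.intro (Nat.card (stabilizer H y)) (by
    have h' := card_orbit_mul H y
    rwa [hy] at h')
  rcases hcard with h | h | h | h | h
  · exact Or.inl h
  · rw [h] at h8; norm_num at h8
  · exfalso
    haveI := hs
    exact not_simple_1344 h (Subgroup.inclusion hA) (Subgroup.inclusion_injective hA)
  · exfalso
    -- a point stabilizer would have order 315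
    set S := (stabilizer H y).map H.subtype with hS
    have hSc : Nat.card S = 315 := by
      rw [hS, Subgroup.card_map_of_injective H.subtype_injective]
      have := card_orbit_mul H y
      rw [hy, h] at this
      omega
    haveI : Fact (Nat.Prime 7) := ⟨by norm_num⟩
    obtain ⟨z, hz⟩ := exists_prime_orderOf_dvd_card' 7 (show 7 ∣ Nat.card S by rw [hSc]; norm_num)
    rw [← Subgroup.orderOf_coe] at hz
    have hct := cycleType_of_order (p := 7) (by norm_num) (by norm_num) hz
    have hcyc : (z : Perm (Fin 8)).IsCycle := card_cycleType_eq_one.mp (by rw [hct]; rfl)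
    have hFc : (z : Perm (Fin 8)).support.card = 7 := by rw [← sum_cycleType, hct]; rfl
    obtain ⟨w, hw⟩ : ∃ w, w ∈ (z : Perm (Fin 8)).support := Finset.card_pos.mp (by omega)
    have hyfix : ∀ s ∈ S, s y = y := by
      intro s hs
      obtain ⟨k, hk, rfl⟩ := Subgroup.mem_map.mp hs
      exact hk
    have horb : Nat.card (orbit S w) = 7 := by
      have hsub1 : (z : Perm (Fin 8)).support ⊆ (orbit S w).toFinset := by
        intro v hv
        rw [Set.mem_toFinset]
        obtain ⟨i, hi⟩ := hcyc.sameCycle (mem_support.mp hw) (mem_support.mp hv)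
        exact ⟨z ^ i, by rw [← hi]; simp [Subgroup.smul_def, Perm.smul_def]⟩
      have hsub2 : (orbit S w).toFinset ⊆ Finset.univ.erase y := by
        intro v hv
        obtain ⟨s, rfl⟩ := Set.mem_toFinset.mp hv
        refine Finset.mem_erase.mpr ⟨fun e => ?_, Finset.mem_univ _⟩
        have h1 : (s : Perm (Fin 8)) w = (s : Perm (Fin 8)) y := e.trans (hyfix s s.2).symm
        have h2 := s.1.injective h1
        rw [h2] at hw
        exact (mem_support.mp hw) (hyfix z z.2)
      have h1 := Finset.card_le_card hsub1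
      have h2 := Finset.card_le_card hsub2
      rw [hFc] at h1
      rw [Finset.card_erase_of_mem (Finset.mem_univ y), Finset.card_univ, Fintype.card_fin] at h2
      rw [Nat.card_coe_set_eq, Set.ncard_eq_toFinset_card']
      omega
    haveI : Fact (Nat.Prime 2) := ⟨Nat.prime_two⟩
    obtain ⟨-, h'⟩ := degree_seven S ((Subgroup.map_subtype_le _).trans hA) w horb (by omega) (fun N _ hN => by
      obtain ⟨k, hk⟩ := IsPGroup.iff_card.mp hN
      rcases k with _ | k
      · exact Subgroup.card_eq_one.mp (by simpa using hk)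
      · exfalso
        have h2 : 2 ∣ 315 := hSc ▸ ((dvd_pow_self 2 (Nat.succ_ne_zero k)).trans (dvd_of_eq hk.symm)).trans
          (Subgroup.card_subgroup_dvd_card N)
        norm_num at h2)
    rcases h' with h' | ⟨h', -⟩ <;> omega
  · right
    refine Subgroup.eq_of_le_of_card_ge hA ?_
    rw [h, nat_card_alternatingGroup, Nat.card_fin]
    rfl

end CfsgLib.AltEight
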