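import Cfsg.Agent.Lib.Linear.SL4Two
import Mathlib.GroupTheory.GroupAction.Quotient
import Mathlib.GroupTheory.GroupAction.SubMulAction
import Mathlib.LinearAlgebra.Matrix.ToLin
import Mathlib.Tactic.IntervalCases

/-!
# No simple group of order 1344 is a subgroup of `A₈`

Such a group would act linearly on sixteen vectors, hence fix a nonzero vector `v`, hence act on the
eight cosets of `{0, v}` fixing one of them, which is too few points.
-/

set_option autoImplicit false
set_option linter.style.haveILetI false

namespace CfsgLib.AltEight

open Matrix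

theorem not_simple_1344_linear {G : Type*} [Group G] [Finite G] [IsSimpleGroup G] (hG : Nat.card G = 1344)
    (f : G →* SpecialLinearGroup (Fin 4) (ZMod 2)) (hf : Function.Injective f) : False := by
  classical
  haveI : Fintype G := Fintype.ofFinite G
  -- action on vectors
  let act : G → (Fin 4 → ZMod 2) → (Fin 4 → ZMod 2) := fun g w => (f g).1 *ᵥ w
  have act_mul : ∀ g g' w, act (g * g') w = act g (act g' w) := fun g g' w => by
    simp [act, mulVec_mulVec]
  have act_one : ∀ w, act 1 w = w := fun w => by simp [act]
  have act_inv : ∀ g w, act g⁻¹ (act g w) = w := fun g w => by rw [← act_mul, inv_mul_cancel, act_one]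
  have act_faith : ∀ g, (∀ w, act g w = w) → g = 1 := by
    intro g h
    apply hf
    rw [map_one]
    apply Subtype.ext
    refine Matrix.ext_of_mulVec_single fun i => ?_
    exact (h _).trans (one_mulVec _).symm
  -- small actions are trivial
  have small : ∀ (β : Type) (_ : Finite β) (φ : G →* Equiv.Perm β), Nat.card β ≤ 7 → ∀ g, φ g = 1 := by
    intro β _ φ hβ g
    rcases IsSimpleGroup.eq_bot_or_eq_top_of_normal φ.ker inferInstance with h | h
    · exfalso
      have hd := Subgroup.card_dvd_of_injective φ ((MonoidHom.ker_eq_bot_iff φ).mp h)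
      rw [hG, Nat.card_perm] at hd
      have h2 := hd.trans (Nat.factorial_dvd_factorial hβ)
      norm_num [Nat.factorial] at h2
    · exact MonoidHom.mem_ker.mp (h ▸ Subgroup.mem_top g)
  -- a fixed nonzero vector
  have hfix : ∃ v : Fin 4 → ZMod 2, v ≠ 0 ∧ ∀ g, act g v = v := by
    letI : MulAction G {w : Fin 4 → ZMod 2 // w ≠ 0} :=
      { smul := fun g w => ⟨act g w.1, fun h => w.2 (by rw [← act_inv g w.1, h]; simp [act])⟩
        one_smul := fun w => Subtype.ext (act_one _)
        mul_smul := fun g g' w => Subtype.ext (act_mul g g' _) }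
    have hX : Nat.card {w : Fin 4 → ZMod 2 // w ≠ 0} = 15 := by
      rw [Nat.card_eq_fintype_card, Fintype.card_subtype_compl, Fintype.card_subtype_eq]
      simp
    obtain ⟨w, hw⟩ : ∃ w : {w : Fin 4 → ZMod 2 // w ≠ 0}, ¬ 2 ∣ Nat.card (MulAction.orbit G w) := by
      by_contra hall
      push Not at hall
      have h := Nat.card_congr (MulAction.selfEquivSigmaOrbits G {w : Fin 4 → ZMod 2 // w ≠ 0})
      rw [hX, Nat.card_sigma] at h
      have h2 : 2 ∣ 15 := h ▸ Finset.dvd_sum (fun q _ => hall _)
      norm_num at h2
    refine ⟨w.1, w.2, fun g => ?_⟩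
    have hle : Nat.card (MulAction.orbit G w) ≤ 15 := hX ▸ Finite.card_subtype_le _
    have hdvd : Nat.card (MulAction.orbit G w) ∣ 1344 := by
      rw [← hG, Nat.card_congr (MulAction.orbitEquivQuotientStabilizer G w)]
      exact Subgroup.index_dvd_card _
    have hle7 : Nat.card (MulAction.orbit G w) ≤ 7 := by
      interval_cases Nat.card (MulAction.orbit G w) <;> omega
    have h1 := DFunLike.congr_fun
      (small _ inferInstance (MulAction.toPermHom G (MulAction.orbit G w)) hle7 g)
      ⟨w, MulAction.mem_orbit_self w⟩
    exact congrArg Subtype.val (congrArg Subtype.val h1)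
  obtain ⟨v, hv, hvfix⟩ := hfix
  let s : Setoid (Fin 4 → ZMod 2) :=
    { r := fun a b => b = a ∨ b = a + v
      iseqv := by
        refine ⟨fun a => Or.inl rfl, ?_, ?_⟩
        · rintro a b (rfl | rfl)
          · exact Or.inl rfl
          · exact Or.inr (by rw [add_assoc, CharTwo.add_self_eq_zero, add_zero])
        · rintro a b c (rfl | rfl) (rfl | rfl)
          · exact Or.inl rfl
          · exact Or.inr rfl
          · exact Or.inr rfl
          · exact Or.inl (by rw [add_assoc, CharTwo.add_self_eq_zero, add_zero]) }
  have hrel : ∀ g a b, s.r a b → s.r (act g a) (act g b) := by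
    rintro g a b (rfl | rfl)
    · exact Or.inl rfl
    · refine Or.inr ?_
      show (f g).1 *ᵥ (a + v) = (f g).1 *ᵥ a + v
      rw [mulVec_add]
      exact congrArg _ (hvfix g)
  let Y := {q : Quotient s // q ≠ Quotient.mk s 0}
  let amap : G → Quotient s → Quotient s := fun g => Quotient.map (act g) (hrel g)
  have amap_zero : ∀ g, amap g (Quotient.mk s 0) = Quotient.mk s 0 := fun g => by
    show Quotient.mk s (act g 0) = _
    simp [act]
  have amap_mul : ∀ g g' q, amap (g * g') q = amap g (amap g' q) := fun g g' q => by
    induction q using Quotient.ind with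
    | _ a => exact congrArg (Quotient.mk s) (act_mul g g' a)
  have amap_one : ∀ q, amap 1 q = q := fun q => by
    induction q using Quotient.ind with
    | _ a => exact congrArg (Quotient.mk s) (act_one a)
  letI : MulAction G Y :=
    { smul := fun g q => ⟨amap g q.1, fun h => q.2 (by
        rw [← amap_one q.1, ← inv_mul_cancel g, amap_mul, h, amap_zero])⟩
      one_smul := fun q => Subtype.ext (amap_one _)
      mul_smul := fun g g' q => Subtype.ext (amap_mul g g' _) }
  have hY : Nat.card Y ≤ 7 := by
    haveI : Fintype (Quotient s) := Fintype.ofFinite _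
    have hq : Nat.card (Quotient s) ≤ 8 := by
      let e : {a : Fin 4 → ZMod 2 // s.r a a} → Quotient s := fun a => Quotient.mk s a.1
      have h16 : 2 * Nat.card (Quotient s) ≤ 16 := by
        let F : Quotient s × Bool → (Fin 4 → ZMod 2) := fun qb =>
          if qb.2 then Quotient.out qb.1 + v else Quotient.out qb.1
        have hF : Function.Injective F := by
          rintro ⟨q, b⟩ ⟨q', b'⟩ h
          have hm : ∀ (q : Quotient s) (b : Bool), Quotient.mk s (F (q, b)) = q := by
            intro q b
            cases b
            · exact Quotient.out_eq q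
            · refine Eq.trans (Quotient.sound ?_) (Quotient.out_eq q)
              exact Or.inr (by simp [F, add_assoc, CharTwo.add_self_eq_zero])
          have hq : q = q' := by rw [← hm q b, h, hm]
          subst hq
          cases b <;> cases b' <;> simp [F] at h ⊢ <;> exact hv h
        have := Nat.card_le_card_of_injective F hF
        rw [Nat.card_prod, Nat.card_eq_fintype_card (α := Bool), Fintype.card_bool,
          Nat.card_eq_fintype_card (α := Fin 4 → ZMod 2)] at this
        simp at this ⊢
        omega
      omega
    have : Nat.card Y < Nat.card (Quotient s) :=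
      Finite.card_subtype_lt (p := fun q => q ≠ Quotient.mk s 0) (x := Quotient.mk s 0) (by simp)
    omega
  have htriv : ∀ g a, s.r (act g a) a := by
    intro g a
    by_cases ha : Quotient.mk s a = Quotient.mk s 0
    · refine Quotient.exact ?_
      show amap g (Quotient.mk s a) = Quotient.mk s a
      rw [ha]
      exact amap_zero g
    · refine Quotient.exact ?_
      exact congrArg Subtype.val
        (DFunLike.congr_fun (small Y inferInstance (MulAction.toPermHom G Y) hY g) ⟨_, ha⟩)
  have hexp : ∀ g : G, g * g = 1 := fun g => act_faith _ fun w => by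
    rw [act_mul]
    rcases htriv g w with h | h
    · rw [← h]; exact h.symm
    · have h' : act g w = act g (act g w) + v := by
        conv_lhs => rw [h]
        show (f g).1 *ᵥ (act g w + v) = _
        rw [mulVec_add]
        exact congrArg _ (hvfix g)
      rw [h', add_assoc, CharTwo.add_self_eq_zero, add_zero] at h
      exact h.symm
  haveI : Fact (Nat.Prime 7) := ⟨by norm_num⟩
  obtain ⟨y, hy⟩ := exists_prime_orderOf_dvd_card' 7 (show 7 ∣ Nat.card G by rw [hG]; norm_num)
  have := orderOf_dvd_of_pow_eq_one (show y ^ 2 = 1 by rw [sq]; exact hexp y)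
  rw [hy] at this
  norm_num at this

/-- No simple group of order 1344 embeds in the alternating group of degree eight. -/
theorem not_simple_1344 {G : Type*} [Group G] [Finite G] [IsSimpleGroup G] (hG : Nat.card G = 1344)
    (f : G →* alternatingGroup (Fin 8)) (hf : Function.Injective f) : False := by
  obtain ⟨e⟩ := CfsgLib.Linear.SL4Two.equiv_A8
  exact not_simple_1344_linear hG (e.symm.toMonoidHom.comp f) (e.symm.injective.comp hf)

end CfsgLib.AltEight
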