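import Cfsg.Agent.Lib.AltEight.Seven
import Cfsg.Agent.Lib.AltEight.Linear
import Cfsg.Agent.Lib.Present.BinIcosahedral
import Cfsg.Agent.Lib.Alt.Aut
import Cfsg.Agent.Lib.PermGen.SwapClosure
import Mathlib.GroupTheory.GroupAction.MultipleTransitivity
import Mathlib.GroupTheory.SpecificGroups.Alternating.Simple

/-!
# Nonsolvable subgroups of `S₅`, `S₆` and big orbits in `A₈`
-/

set_option autoImplicit false
set_option linter.style.haveILetI false
set_option maxHeartbeats 800000

namespace CfsgLib.AltEight

open Equiv Equiv.Perm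

section Restrict

set_option linter.unusedSectionVars false

variable {α : Type*} [Fintype α] [DecidableEq α]

/-- A group of permutations preserving a set acts on it. -/
def restrictHom (H : Subgroup (Perm α)) (p : α → Prop) (hp : ∀ g ∈ H, ∀ x, p (g x) ↔ p x) :
    H →* Perm {x // p x} where
  toFun g := (g : Perm α).subtypePerm (hp g g.2)
  map_one' := Equiv.ext fun _ => rfl
  map_mul' _ _ := Equiv.ext fun _ => rfl

theorem restrictHom_apply (H : Subgroup (Perm α)) (p : α → Prop) (hp : ∀ g ∈ H, ∀ x, p (g x) ↔ p x)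
    (g : H) (x : {x // p x}) : ((restrictHom H p hp g x : {x // p x}) : α) = (g : Perm α) x := rfl

theorem restrictHom_eq_one_iff (H : Subgroup (Perm α)) (p : α → Prop) (hp : ∀ g ∈ H, ∀ x, p (g x) ↔ p x)
    (g : H) : restrictHom H p hp g = 1 ↔ ∀ x, p x → (g : Perm α) x = x := by
  constructor
  · intro h x hx
    exact congrArg Subtype.val (DFunLike.congr_fun h ⟨x, hx⟩)
  · intro h
    exact Equiv.ext fun x => Subtype.ext (h x x.2)

/-- An even permutation fixing `p` pointwise is even on the complement. -/
theorem sign_restrictHom_compl (H : Subgroup (Perm α)) (p : α → Prop) [DecidablePred p]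
    (hp : ∀ g ∈ H, ∀ x, (¬ p (g x)) ↔ ¬ p x) (g : H) (hg : ∀ x, p x → (g : Perm α) x = x) :
    Perm.sign (restrictHom H (fun x => ¬ p x) hp g) = Perm.sign (g : Perm α) :=
  sign_subtypePerm _ (hp g g.2) fun x hx hpx => hx (hg x hpx)

end Restrict

theorem not_two_core_iff {G : Type*} [Group G] (hO2 : ∀ N : Subgroup G, N.Normal → IsPGroup 2 N → N = ⊥)
    {G' : Type*} [Group G'] (e : G ≃* G') : ∀ N : Subgroup G', N.Normal → IsPGroup 2 N → N = ⊥ := by
  intro N hN hp
  have h := hO2 (N.comap e.toMonoidHom) (hN.comap _)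
    (hp.comap_of_injective e.toMonoidHom e.injective)
  rw [← Subgroup.map_comap_eq_self_of_surjective (f := e.toMonoidHom) e.surjective N, h, Subgroup.map_bot]

/-- An even part of a nonsolvable permutation group is nonsolvable. -/
theorem even_part_not_solvable {α : Type*} [Fintype α] [DecidableEq α] (L : Subgroup (Perm α))
    (hns : ¬ Group.IsSolvable L) : ¬ Group.IsSolvable ((alternatingGroup α).subgroupOf L) := fun h =>
  hns (Group.isSolvable_of_ker_le_range ((alternatingGroup α).subgroupOf L).subtype
    (Perm.sign.comp L.subtype) (by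
      intro g hg
      rw [Subgroup.range_subtype, Subgroup.mem_subgroupOf, mem_alternatingGroup]
      exact hg))

theorem card_alt_five : Nat.card (alternatingGroup (Fin 5)) = 60 := by
  rw [nat_card_alternatingGroup, Nat.card_fin]; rfl

theorem card_alt_six : Nat.card (alternatingGroup (Fin 6)) = 360 := by
  rw [nat_card_alternatingGroup, Nat.card_fin]; rfl

/-- A nonsolvable group of permutations of five points is `A₅` or `S₅`. -/
theorem degree_five (L : Subgroup (Perm (Fin 5))) (hns : ¬ Group.IsSolvable L) :
    Nonempty (L ≃* alternatingGroup (Fin 5)) ∨ Nonempty (L ≃* Perm (Fin 5)) := by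
  have h0 := even_part_not_solvable L hns
  let ι : ↥((alternatingGroup (Fin 5)).subgroupOf L) →* alternatingGroup (Fin 5) :=
    { toFun := fun g => ⟨((g : L) : Perm (Fin 5)), Subgroup.mem_subgroupOf.mp g.2⟩
      map_one' := rfl
      map_mul' := fun _ _ => rfl }
  have hι : Function.Injective ι := fun a b h =>
    Subtype.ext (Subtype.ext (congrArg (fun z : alternatingGroup (Fin 5) => (z : Perm (Fin 5))) h))
  have hd := Subgroup.card_dvd_of_injective ι hι
  rw [card_alt_five] at hd
  have h60 : Nat.card ↥((alternatingGroup (Fin 5)).subgroupOf L) = 60 := by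
    by_contra hne
    exact h0 (CfsgLib.Present.isSolvable_of_card_dvd_sixty hd hne)
  have hAL : alternatingGroup (Fin 5) ≤ L := by
    intro g hg
    obtain ⟨z, hz⟩ := ((Nat.bijective_iff_injective_and_card ι).mpr ⟨hι, by rw [h60, card_alt_five]⟩).2 ⟨g, hg⟩
    have h' := congrArg (fun z : alternatingGroup (Fin 5) => (z : Perm (Fin 5))) hz
    exact (show (((z : L)) : Perm (Fin 5)) = g from h') ▸ (z : L).2
  have h1 := Subgroup.card_dvd_of_le hAL
  have h2 := Subgroup.card_subgroup_dvd_card L
  rw [card_alt_five] at h1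
  rw [Nat.card_perm, Nat.card_fin, show Nat.factorial 5 = 120 from rfl] at h2
  have hle := Nat.le_of_dvd (by norm_num) h2
  have hcases : Nat.card L = 60 ∨ Nat.card L = 120 := by
    have := Nat.card_pos (α := L)
    omega
  rcases hcases with h | h
  · left
    rw [← Subgroup.eq_of_le_of_card_ge hAL (by rw [h, card_alt_five])]
    exact ⟨MulEquiv.refl _⟩
  · right
    rw [L.eq_top_of_card_eq (by rw [h, Nat.card_perm, Nat.card_fin]; rfl)]
    exact ⟨Subgroup.topEquiv⟩

/-- A nonsolvable group of permutations of six points without normal 2-subgroup is `A₅`, `A₆`, `S₅` or `S₆`. -/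
theorem degree_six (L : Subgroup (Perm (Fin 6))) (hns : ¬ Group.IsSolvable L)
    (hO2 : ∀ N : Subgroup L, N.Normal → IsPGroup 2 N → N = ⊥) :
    Nonempty (L ≃* alternatingGroup (Fin 5)) ∨ Nonempty (L ≃* alternatingGroup (Fin 6)) ∨
      Nonempty (L ≃* Perm (Fin 5)) ∨ Nonempty (L ≃* Perm (Fin 6)) := by
  have h0 := even_part_not_solvable L hns
  haveI hnorm : ((alternatingGroup (Fin 6)).subgroupOf L).Normal := inferInstance
  set L0 := (alternatingGroup (Fin 6)).subgroupOf L with hL0
  let ι : L0 →* alternatingGroup (Fin 6) :=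
    { toFun := fun g => ⟨((g : L) : Perm (Fin 6)), Subgroup.mem_subgroupOf.mp g.2⟩
      map_one' := rfl
      map_mul' := fun _ _ => rfl }
  have hι : Function.Injective ι := fun a b h =>
    Subtype.ext (Subtype.ext (congrArg (fun z : alternatingGroup (Fin 6) => (z : Perm (Fin 6))) h))
  haveI : IsSimpleGroup (alternatingGroup (Fin 6)) := alternatingGroup.isSimpleGroup (by simp)
  -- index of the even part at most two
  have hidx : L0.index ∣ 2 := by
    have hker : L0 = (Perm.sign.comp L.subtype).ker := by
      ext g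
      rw [Subgroup.mem_subgroupOf, mem_alternatingGroup, MonoidHom.mem_ker]
      rfl
    rw [hker, Subgroup.index_ker]
    have := Subgroup.card_subgroup_dvd_card (Perm.sign.comp L.subtype).range
    rwa [Nat.card_eq_fintype_card (α := ℤˣ), Fintype.card_units_int] at this
  have hLc := L0.card_mul_index
  have hd := Subgroup.card_dvd_of_injective ι hι
  rw [card_alt_six] at hd
  by_cases h360 : Nat.card L0 = 360
  · rcases (Nat.dvd_prime Nat.prime_two).mp hidx with h | h <;> rw [h, h360] at hLc
    · right; left
      have : L = alternatingGroup (Fin 6) := by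
        refine (Subgroup.eq_of_le_of_card_ge ?_ (by rw [← hLc, card_alt_six])).symm
        intro g hg
        obtain ⟨z, hz⟩ := ((Nat.bijective_iff_injective_and_card ι).mpr ⟨hι, by rw [h360, card_alt_six]⟩).2 ⟨g, hg⟩
        have h' := congrArg (fun z : alternatingGroup (Fin 6) => (z : Perm (Fin 6))) hz
        exact (show (((z : L)) : Perm (Fin 6)) = g from h') ▸ (z : L).2
      rw [this]
      exact ⟨MulEquiv.refl _⟩
    · right; right; right
      rw [L.eq_top_of_card_eq (by rw [← hLc, Nat.card_perm, Nat.card_fin]; rfl)]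
      exact ⟨Subgroup.topEquiv⟩
  -- otherwise the even part has order sixty
  have h60 : Nat.card L0 = 60 := by
    have hr := Subgroup.card_mul_index ι.range
    have hrc : Nat.card ι.range = Nat.card L0 := Nat.card_congr (MonoidHom.ofInjective hι).toEquiv.symm
    rw [hrc, card_alt_six] at hr
    have hbig : 6 ≤ ι.range.index := by
      by_contra hlt
      push Not at hlt
      have hne : ι.range ≠ ⊤ := fun h => by
        rw [h, Subgroup.card_top, card_alt_six] at hrc
        exact h360 hrc.symm
      let φ := MulAction.toPermHom (alternatingGroup (Fin 6)) (alternatingGroup (Fin 6) ⧸ ι.range)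
      rcases IsSimpleGroup.eq_bot_or_eq_top_of_normal φ.ker inferInstance with h | h
      · have hd' := Subgroup.card_dvd_of_injective φ ((MonoidHom.ker_eq_bot_iff φ).mp h)
        rw [card_alt_six, Nat.card_perm] at hd'
        have h2 := hd'.trans (Nat.factorial_dvd_factorial (show Nat.card (alternatingGroup (Fin 6) ⧸ ι.range) ≤ 5 from
          Nat.le_of_lt_succ hlt))
        norm_num [Nat.factorial] at h2
      · apply hne
        rw [eq_top_iff]
        intro g _
        have hg : φ g = 1 := MonoidHom.mem_ker.mp (h ▸ Subgroup.mem_top g)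
        have h1 : ((g : alternatingGroup (Fin 6) ⧸ ι.range)) = ((1 : alternatingGroup (Fin 6)) : _ ⧸ ι.range) := by
          have h2 : g • ((1 : alternatingGroup (Fin 6)) : _ ⧸ ι.range) = ((1 : alternatingGroup (Fin 6)) : _ ⧸ ι.range) :=
            DFunLike.congr_fun hg ((1 : alternatingGroup (Fin 6)) : _ ⧸ ι.range)
          rwa [MulAction.Quotient.smul_coe, smul_eq_mul, mul_one] at h2
        have := QuotientGroup.eq.mp h1
        simpa using ι.range.inv_mem this
    have hle : Nat.card L0 ≤ 60 := by nlinarith
    by_contra hne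
    apply h0
    obtain ⟨j, hj⟩ := hd
    by_cases h30 : Nat.card L0 = 30
    · exact CfsgLib.Present.isSolvable_of_card_dvd_sixty (by rw [h30]; norm_num) hne
    have hlist : ∀ n ∈ Nat.divisors 360, n ≤ 60 → n ≠ 60 → n ≠ 30 → ¬ 2 ∣ n ∨ ¬ 3 ∣ n ∨ ¬ 5 ∣ n := by
      decide +kernel
    have hp : ∀ r : ℕ, r.Prime → r ∣ Nat.card L0 → r = 2 ∨ r = 3 ∨ r = 5 := by
      intro r hr hdr
      have hr' : r ∣ 2 ^ 3 * 3 ^ 2 * 5 := hdr.trans ⟨j, hj⟩
      rcases (Nat.Prime.dvd_mul hr).mp hr' with h | h
      · rcases (Nat.Prime.dvd_mul hr).mp h with h | h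
        · exact Or.inl ((Nat.prime_dvd_prime_iff_eq hr Nat.prime_two).mp (hr.dvd_of_dvd_pow h))
        · exact Or.inr (Or.inl ((Nat.prime_dvd_prime_iff_eq hr Nat.prime_three).mp (hr.dvd_of_dvd_pow h)))
      · exact Or.inr (Or.inr ((Nat.prime_dvd_prime_iff_eq hr (by norm_num)).mp h))
    rcases hlist _ (Nat.mem_divisors.mpr ⟨⟨j, hj⟩, by norm_num⟩) hle hne h30 with h | h | h
    · refine CfsgLib.Char.isSolvable_of_two_primes 3 5 Nat.prime_three (by norm_num) _ _ rfl fun r hr hdr => ?_
      rcases hp r hr hdr with rfl | rfl | rfl <;>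
        first | exact Or.inl rfl | exact Or.inr rfl | exact absurd hdr h
    · refine CfsgLib.Char.isSolvable_of_two_primes 2 5 Nat.prime_two (by norm_num) _ _ rfl fun r hr hdr => ?_
      rcases hp r hr hdr with rfl | rfl | rfl <;>
        first | exact Or.inl rfl | exact Or.inr rfl | exact absurd hdr h
    · refine CfsgLib.Char.isSolvable_of_two_primes 2 3 Nat.prime_two Nat.prime_three _ _ rfl fun r hr hdr => ?_
      rcases hp r hr hdr with rfl | rfl | rfl <;>
        first | exact Or.inl rfl | exact Or.inr rfl | exact absurd hdr h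
  obtain ⟨e5⟩ := CfsgLib.Present.nonsolvable_sixty h60 h0
  rcases (Nat.dvd_prime Nat.prime_two).mp hidx with h | h <;> rw [h, h60] at hLc
  · left
    have htop : L0 = ⊤ := L0.eq_top_of_card_eq (by rw [h60, ← hLc])
    exact ⟨(Subgroup.topEquiv.symm.trans (MulEquiv.subgroupCongr htop.symm)).trans e5⟩
  right; right; left
  -- the centralizer of the even part is trivial
  let f : L →* MulAut L0 := MulAut.conjNormal
  have hfker : f.ker ⊓ L0 = ⊥ := by
    rw [Subgroup.eq_bot_iff_forall]
    rintro z ⟨hz, hz0⟩
    have hcz : ∀ w : L0, (⟨z, hz0⟩ : L0) * w = w * ⟨z, hz0⟩ := fun w => by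
      have h1 : ((f z w : L0) : L) = w := congrArg Subtype.val (DFunLike.congr_fun hz w)
      rw [MulAut.conjNormal_apply] at h1
      exact Subtype.ext (mul_inv_eq_iff_eq_mul.mp h1)
    haveI : IsSimpleGroup (alternatingGroup (Fin 5)) := alternatingGroup.isSimpleGroup (by simp)
    have hc : Subgroup.center (alternatingGroup (Fin 5)) = ⊥ := by
      rcases IsSimpleGroup.eq_bot_or_eq_top_of_normal (Subgroup.center (alternatingGroup (Fin 5)))
        inferInstance with h' | h'
      · exact h'
      · exfalso
        have := h0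
        apply this
        haveI : Group.IsSolvable (alternatingGroup (Fin 5)) := Group.isSolvable_of_comm fun a b =>
          Subgroup.mem_center_iff.mp (h' ▸ Subgroup.mem_top b) a
        exact Group.isSolvable_of_isSolvable_injective (f := e5.toMonoidHom) e5.injective
    have hmem : e5 ⟨z, hz0⟩ ∈ Subgroup.center (alternatingGroup (Fin 5)) := by
      rw [Subgroup.mem_center_iff]
      intro w
      obtain ⟨w, rfl⟩ := e5.surjective w
      rw [← map_mul, ← map_mul, hcz]
    rw [hc, Subgroup.mem_bot, e5.map_eq_one_iff] at hmem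
    exact congrArg Subtype.val hmem
  have hinj : Function.Injective f := by
    rw [← MonoidHom.ker_eq_bot_iff]
    refine hO2 _ inferInstance ?_
    have hd2 : Nat.card f.ker ∣ L0.index := by
      let q : f.ker →* L ⧸ L0 := (QuotientGroup.mk' L0).comp f.ker.subtype
      have hq : Function.Injective q := by
        rw [injective_iff_map_eq_one]
        intro a ha
        have : (a : L) ∈ f.ker ⊓ L0 := ⟨a.2, (QuotientGroup.eq_one_iff _).mp ha⟩
        rw [hfker, Subgroup.mem_bot] at this
        exact Subtype.ext this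
      exact Subgroup.card_dvd_of_injective q hq
    rw [h] at hd2
    rcases (Nat.dvd_prime Nat.prime_two).mp hd2 with h' | h'
    · exact IsPGroup.of_card (n := 0) (by rw [h', pow_zero])
    · exact IsPGroup.of_card (n := 1) (by rw [h', pow_one])
  let c := MulEquiv.ofBijective (MulAut.conjNormal : Perm (Fin 5) →* MulAut (alternatingGroup (Fin 5)))
    ⟨CfsgLib.AltAut.conjNormal_injective (by simp), CfsgLib.AltAut.conjNormal_surjective (by simp) (by simp)⟩
  let F : L →* Perm (Fin 5) := (c.symm.toMonoidHom.comp (MulAut.congr e5).toMonoidHom).comp f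
  have hF : Function.Injective F := c.symm.injective.comp ((MulAut.congr e5).injective.comp hinj)
  exact ⟨MulEquiv.ofBijective F ((Nat.bijective_iff_injective_and_card F).mpr
    ⟨hF, by rw [← hLc, Nat.card_perm, Nat.card_fin]; rfl⟩)⟩

end CfsgLib.AltEight
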