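import Cfsg.Agent.Lib.AltEight.Classify

/-!
# The list of nonsolvable subgroups of `A₈` without normal 2-subgroup
-/

set_option autoImplicit false
set_option linter.style.haveILetI false
set_option maxHeartbeats 1000000

namespace CfsgLib.AltEight

open Equiv Equiv.Perm MulAction

theorem no_three_core_alt_five {N : Subgroup (alternatingGroup (Fin 5))} (hN : N.Normal) (hp : IsPGroup 3 N) :
    N = ⊥ := by
  haveI : IsSimpleGroup (alternatingGroup (Fin 5)) := alternatingGroup.isSimpleGroup (by simp)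
  haveI : Fact (Nat.Prime 3) := ⟨Nat.prime_three⟩
  refine (IsSimpleGroup.eq_bot_or_eq_top_of_normal N hN).resolve_right fun h => ?_
  obtain ⟨k, hk⟩ := IsPGroup.iff_card.mp hp
  rw [h, Subgroup.card_top, card_alt_five] at hk
  have h5 : 5 ∣ 3 ^ k := hk ▸ by norm_num
  exact absurd ((Nat.Prime.dvd_of_dvd_pow (by norm_num : Nat.Prime 5) h5)) (by norm_num)

theorem no_three_core_perm_five {N : Subgroup (Perm (Fin 5))} (hN : N.Normal) (hp : IsPGroup 3 N) :
    N = ⊥ := by
  haveI : Fact (Nat.Prime 3) := ⟨Nat.prime_three⟩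
  have hle : N ≤ alternatingGroup (Fin 5) := fun g hg => by
    rw [mem_alternatingGroup]
    obtain ⟨k, hk⟩ := hp ⟨g, hg⟩
    have h1 : g ^ 3 ^ k = 1 := congrArg Subtype.val hk
    have h2 : Perm.sign g ^ 3 ^ k = 1 := by rw [← map_pow, h1, map_one]
    rcases Int.units_eq_one_or (Perm.sign g) with h | h
    · exact h
    · rw [h, Odd.neg_one_pow (Odd.pow (by decide))] at h2
      exact absurd h2 (by decide)
  have h := no_three_core_alt_five (hN.comap (alternatingGroup (Fin 5)).subtype)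
    (hp.comap_of_injective _ (Subgroup.subtype_injective _))
  rw [Subgroup.eq_bot_iff_forall]
  intro g hg
  have : (⟨g, hle hg⟩ : alternatingGroup (Fin 5)) ∈ N.comap (alternatingGroup (Fin 5)).subtype := hg
  rw [h, Subgroup.mem_bot] at this
  exact congrArg Subtype.val this

/-- Subgroup version of the classification. -/
theorem classify_subgroup (H : Subgroup (Perm (Fin 8))) (hA : H ≤ alternatingGroup (Fin 8))
    (hns : ¬ Group.IsSolvable H) (hO2 : ∀ N : Subgroup H, N.Normal → IsPGroup 2 N → N = ⊥) :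
    (∃ n : ℕ, 5 ≤ n ∧ n ≤ 8 ∧ Nonempty (H ≃* alternatingGroup (Fin n))) ∨
      Nonempty (H ≃* Perm (Fin 5)) ∨ Nonempty (H ≃* Perm (Fin 6)) ∨
      (IsSimpleGroup H ∧ Nat.card H = 168) ∨
      (∃ K : Subgroup H, ∃ _ : K.Normal, Nat.card K = 3 ∧
        (∀ N : Subgroup H, N.Normal → IsPGroup 3 N → N ≤ K) ∧
        (Nonempty (H ⧸ K ≃* alternatingGroup (Fin 5)) ∨ Nonempty (H ⧸ K ≃* Perm (Fin 5)))) := by
  classical
  obtain ⟨y, hy⟩ : ∃ y, 4 < Nat.card (orbit H y) := by
    by_contra h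
    push Not at h
    exact hns (CfsgLib.PermGen.isSolvable_of_orbit_le_four H h)
  have hy8 : Nat.card (orbit H y) ≤ 8 := (Finite.card_subtype_le _).trans (by simp)
  obtain ⟨d, hd⟩ : ∃ d, Nat.card (orbit H y) = d := ⟨_, rfl⟩
  have hd' : d = 5 ∨ d = 6 ∨ d = 7 ∨ d = 8 := by omega
  by_cases h7 : d = 7
  · obtain ⟨hs, hc⟩ := degree_seven H hA y (hd.trans h7) (lt_card_of_not_solvable
      ((hd.trans h7) ▸ Dvd.intro _ (card_orbit_mul H y)) hns) hO2
    rcases hc with h | ⟨-, h⟩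
    · exact Or.inr (Or.inr (Or.inr (Or.inl ⟨hs, h⟩)))
    · exact Or.inl ⟨7, by norm_num, by norm_num, h⟩
  by_cases h8 : d = 8
  · obtain ⟨hs, hc⟩ := degree_eight H hA y (hd.trans h8) hns hO2
    rcases hc with h | h
    · exact Or.inr (Or.inr (Or.inr (Or.inl ⟨hs, h⟩)))
    · exact Or.inl ⟨8, by norm_num, le_rfl, ⟨MulEquiv.subgroupCongr h⟩⟩
  -- small orbits
  let p : Fin 8 → Prop := fun x => x ∈ orbit H y
  have hp := orbit_invariant H y
  let e : {x // p x} ≃ Fin d := Finite.equivFinOfCardEq hd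
  let π : H →* Perm (Fin d) := e.permCongrHom.toMonoidHom.comp (restrictHom H p hp)
  have hker : ∀ g : H, g ∈ π.ker ↔ ∀ x, p x → (g : Perm (Fin 8)) x = x := fun g => by
    rw [MonoidHom.mem_ker, ← restrictHom_eq_one_iff H p hp g]
    exact map_eq_one_iff _ e.permCongrHom.injective
  have hp' : ∀ g ∈ H, ∀ x, ¬ p (g x) ↔ ¬ p x := fun g hg x => not_congr (hp g hg x)
  let σ : π.ker →* Perm {x // ¬ p x} := (restrictHom H (fun x => ¬ p x) hp').comp π.ker.subtype
  have hσ : ∀ g, σ g ∈ alternatingGroup {x // ¬ p x} := fun g => by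
    rw [mem_alternatingGroup]
    exact (sign_restrictHom_compl H p hp' g ((hker g).mp g.2)).trans (mem_alternatingGroup.mp (hA g.1.2))
  have hσinj : Function.Injective σ := by
    rw [injective_iff_map_eq_one]
    intro g hg
    refine Subtype.ext (Subtype.ext (Equiv.ext fun x => ?_))
    by_cases hx : p x
    · exact (hker g).mp g.2 x hx
    · exact (restrictHom_eq_one_iff H _ hp' g.1).mp hg x hx
  have hKd := Subgroup.card_dvd_of_injective (σ.codRestrict _ hσ) fun a b h => hσinj (congrArg Subtype.val h)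
  have hcompl : Nat.card {x // ¬ p x} = 8 - d := by
    rw [Nat.card_eq_fintype_card, Fintype.card_subtype_compl, Fintype.card_fin]
    congr 1
    rw [← hd, Nat.card_eq_fintype_card]
  have hRiso : H ⧸ π.ker ≃* π.range := QuotientGroup.quotientKerEquivRange π
  by_cases hbot : π.ker = ⊥
  · let iso : H ≃* π.range := MonoidHom.ofInjective ((MonoidHom.ker_eq_bot_iff π).mp hbot)
    have hns' : ¬ Group.IsSolvable π.range := fun h => hns
      (Group.isSolvable_of_isSolvable_injective (f := iso.toMonoidHom) iso.injective)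
    rcases hd' with rfl | rfl | rfl | rfl
    · rcases degree_five π.range hns' with ⟨⟨f⟩⟩ | ⟨⟨f⟩⟩
      · exact Or.inl ⟨5, le_rfl, by norm_num, ⟨iso.trans f⟩⟩
      · exact Or.inr (Or.inl ⟨iso.trans f⟩)
    · rcases degree_six π.range hns' (not_two_core_iff hO2 iso) with ⟨⟨f⟩⟩ | ⟨⟨f⟩⟩ | ⟨⟨f⟩⟩ | ⟨⟨f⟩⟩
      · exact Or.inl ⟨5, le_rfl, by norm_num, ⟨iso.trans f⟩⟩
      · exact Or.inl ⟨6, by norm_num, by norm_num, ⟨iso.trans f⟩⟩
      · exact Or.inr (Or.inl ⟨iso.trans f⟩)
      · exact Or.inr (Or.inr (Or.inl ⟨iso.trans f⟩))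
    · exact absurd rfl h7
    · exact absurd rfl h8
  have hd5 : d = 5 ∧ Nat.card π.ker = 3 := by
    rcases hd' with rfl | rfl | rfl | rfl
    · refine ⟨rfl, ?_⟩
      have hnt : Nat.card π.ker ≠ 1 := fun h => hbot (Subgroup.card_eq_one.mp h)
      haveI : Nontrivial {x // ¬ p x} := Finite.one_lt_card_iff_nontrivial.mp (by rw [hcompl]; norm_num)
      rw [nat_card_alternatingGroup, hcompl, show Nat.factorial (8 - 5) / 2 = 3 from rfl] at hKd
      exact ((Nat.dvd_prime Nat.prime_three).mp hKd).resolve_left hnt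
    · exfalso
      apply hbot
      haveI : Nontrivial {x // ¬ p x} := Finite.one_lt_card_iff_nontrivial.mp (by rw [hcompl]; norm_num)
      rw [nat_card_alternatingGroup, hcompl, show Nat.factorial (8 - 6) / 2 = 1 from rfl] at hKd
      exact Subgroup.card_eq_one.mp (Nat.dvd_one.mp hKd)
    · exact absurd rfl h7
    · exact absurd rfl h8
  obtain ⟨rfl, hK3⟩ := hd5
  haveI : Fact (Nat.Prime 3) := ⟨Nat.prime_three⟩
  have hns' : ¬ Group.IsSolvable π.range := by
    intro h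
    apply hns
    haveI : IsCyclic π.ker := isCyclic_of_prime_card hK3
    let _ : CommGroup π.ker := IsCyclic.commGroup
    exact (Group.isSolvable_iff_subgroup_quotient π.ker).mpr
      ⟨Group.isSolvable_of_comm fun a b => mul_comm a b,
        Group.isSolvable_of_isSolvable_injective (f := hRiso.toMonoidHom) hRiso.injective⟩
  have hiso : Nonempty (H ⧸ π.ker ≃* alternatingGroup (Fin 5)) ∨ Nonempty (H ⧸ π.ker ≃* Perm (Fin 5)) := by
    rcases degree_five π.range hns' with ⟨⟨f⟩⟩ | ⟨⟨f⟩⟩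
    · exact Or.inl ⟨hRiso.trans f⟩
    · exact Or.inr ⟨hRiso.trans f⟩
  refine Or.inr (Or.inr (Or.inr (Or.inr ⟨π.ker, inferInstance, hK3, fun N hN hNp => ?_, hiso⟩)))
  have hsurjmk := QuotientGroup.mk'_surjective π.ker
  rcases hiso with ⟨⟨f⟩⟩ | ⟨⟨f⟩⟩
  · have hs : Function.Surjective (f.toMonoidHom.comp (QuotientGroup.mk' π.ker)) := f.surjective.comp hsurjmk
    have h := no_three_core_alt_five (hN.map _ hs) (hNp.map _)
    rw [Subgroup.map_eq_bot_iff] at h
    intro n hn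
    exact (QuotientGroup.eq_one_iff n).mp ((map_eq_one_iff f f.injective).mp (h hn))
  · have hs : Function.Surjective (f.toMonoidHom.comp (QuotientGroup.mk' π.ker)) := f.surjective.comp hsurjmk
    have h := no_three_core_perm_five (hN.map _ hs) (hNp.map _)
    rw [Subgroup.map_eq_bot_iff] at h
    intro n hn
    exact (QuotientGroup.eq_one_iff n).mp ((map_eq_one_iff f f.injective).mp (h hn))

/-- A nonsolvable group with trivial `O₂` that embeds into `A₈`. -/
theorem classify {Q : Type*} [Group Q] [Finite Q] (f : Q →* alternatingGroup (Fin 8)) (hf : Function.Injective f)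
    (hns : ¬ Group.IsSolvable Q) (hO2 : Cfsg.pCore 2 Q = ⊥) :
    (∃ n : ℕ, 5 ≤ n ∧ n ≤ 8 ∧ Nonempty (Q ≃* alternatingGroup (Fin n))) ∨
      Nonempty (Q ≃* Perm (Fin 5)) ∨ Nonempty (Q ≃* Perm (Fin 6)) ∨
      (IsSimpleGroup Q ∧ Nat.card Q = 168) ∨
      (Nat.card (Cfsg.pCore 3 Q) = 3 ∧ (Nonempty (Q ⧸ Cfsg.pCore 3 Q ≃* alternatingGroup (Fin 5)) ∨
        Nonempty (Q ⧸ Cfsg.pCore 3 Q ≃* Perm (Fin 5)))) := by
  let f' : Q →* Perm (Fin 8) := (alternatingGroup (Fin 8)).subtype.comp f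
  let e : Q ≃* f'.range := MonoidHom.ofInjective ((Subgroup.subtype_injective _).comp hf)
  have h2 : ∀ N : Subgroup Q, N.Normal → IsPGroup 2 N → N = ⊥ := fun N hN hp =>
    le_bot_iff.mp (hO2 ▸ CfsgLib.Solvable.le_pCore hN hp)
  have hns' : ¬ Group.IsSolvable f'.range := fun h => hns
    (Group.isSolvable_of_isSolvable_injective (f := e.toMonoidHom) e.injective)
  have hA : f'.range ≤ alternatingGroup (Fin 8) := by
    rintro _ ⟨q, rfl⟩
    exact (f q).2
  rcases classify_subgroup f'.range hA hns' (not_two_core_iff h2 e) with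
    ⟨n, h5, h8, ⟨g⟩⟩ | ⟨⟨g⟩⟩ | ⟨⟨g⟩⟩ | ⟨hs, hc⟩ | ⟨K, hKn, hK3, hKmax, hK⟩
  · exact Or.inl ⟨n, h5, h8, ⟨e.trans g⟩⟩
  · exact Or.inr (Or.inl ⟨e.trans g⟩)
  · exact Or.inr (Or.inr (Or.inl ⟨e.trans g⟩))
  · exact Or.inr (Or.inr (Or.inr (Or.inl ⟨e.isSimpleGroup, (Nat.card_congr e.toEquiv).trans hc⟩)))
  · haveI : Fact (Nat.Prime 3) := ⟨Nat.prime_three⟩
    have hcore : Cfsg.pCore 3 Q = K.comap e.toMonoidHom := by
      refine le_antisymm (sSup_le fun N hN => ?_) (CfsgLib.Solvable.le_pCore (hKn.comap _)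
        ((IsPGroup.of_card (n := 1) (by rw [hK3, pow_one])).comap_of_injective _ e.injective))
      rw [← Subgroup.map_le_iff_le_comap]
      exact hKmax _ (hN.1.map _ e.surjective) (hN.2.map _)
    have hcard : Nat.card (Cfsg.pCore 3 Q) = 3 := by
      rw [hcore, ← hK3]
      exact Nat.card_congr ((e.subgroupMap (K.comap e.toMonoidHom)).trans
        (MulEquiv.subgroupCongr (Subgroup.map_comap_eq_self_of_surjective e.surjective K))).toEquiv
    haveI : (Cfsg.pCore 3 Q).Normal := CfsgLib.Solvable.pCore_normal 3 Q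
    have eq : Q ⧸ Cfsg.pCore 3 Q ≃* f'.range ⧸ K := QuotientGroup.congr _ _ e
      (by rw [hcore]; exact Subgroup.map_comap_eq_self_of_surjective e.surjective K)
    exact Or.inr (Or.inr (Or.inr (Or.inr ⟨hcard, hK.imp (fun ⟨g⟩ => ⟨eq.trans g⟩) fun ⟨g⟩ => ⟨eq.trans g⟩⟩)))

end CfsgLib.AltEight
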