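import Cfsg.Agent.Lib.RankFour.Sectional
import Mathlib.GroupTheory.Perm.Fin
import Mathlib.GroupTheory.Perm.Cycle.Type

/-!
# `S₆` acting faithfully on sixteen points of an elementary abelian group

The action has three commuting transvection-like involutions with all pairwise products having the same
fixed group of order four, and each of them has a lift squaring into that group.
-/

set_option autoImplicit false
set_option linter.style.haveILetI false
set_option linter.unusedSectionVars false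
set_option maxHeartbeats 1000000

namespace CfsgLib.AltEight.Sixteen

open Equiv

variable {V : Type*} [CommGroup V] [Finite V]

/-- The fixed subgroup of an automorphism. -/
def fx (φ : MulAut V) : Subgroup V where
  carrier := {v | φ v = v}
  one_mem' := map_one φ
  mul_mem' {a b} (ha : φ a = a) (hb : φ b = b) := by show φ (a * b) = a * b; rw [map_mul, ha, hb]
  inv_mem' {a} (ha : φ a = a) := by show φ a⁻¹ = a⁻¹; rw [map_inv, ha]

theorem mem_fx {φ : MulAut V} {v : V} : v ∈ fx φ ↔ φ v = v := Iff.rfl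

/-- `v ↦ v * φ v`. -/
def δ (φ : MulAut V) : V →* V where
  toFun v := v * φ v
  map_one' := by rw [map_one, mul_one]
  map_mul' a b := by rw [map_mul]; exact mul_mul_mul_comm _ _ _ _

theorem fx_conj {φ ψ : MulAut V} (v : V) : v ∈ fx (ψ * φ * ψ⁻¹) ↔ ψ⁻¹ v ∈ fx φ := by
  simp only [mem_fx, MulAut.mul_apply]
  constructor
  · intro h
    have := congrArg (ψ⁻¹ : MulAut V) h
    simpa using this
  · intro h
    rw [h]
    simp

theorem card_fx_conj (φ ψ : MulAut V) : Nat.card (fx (ψ * φ * ψ⁻¹)) = Nat.card (fx φ) := by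
  refine Nat.card_congr ((Equiv.subtypeEquiv (ψ⁻¹ : MulAut V).toEquiv fun v => ?_))
  exact fx_conj v

variable (h2 : ∀ v : V, v * v = 1) (h16 : Nat.card V = 16)

include h2 in
theorem δ_ker (φ : MulAut V) : (δ φ).ker = fx φ := by
  ext v
  rw [MonoidHom.mem_ker, mem_fx]
  show v * φ v = 1 ↔ φ v = v
  constructor
  · intro h
    calc φ v = v * v * φ v := by rw [h2, one_mul]
      _ = v := by rw [mul_assoc, h, mul_one]
  · intro h; rw [h, h2]

include h16 in
theorem card_fx_cases (φ : MulAut V) : Nat.card (fx φ) = 1 ∨ Nat.card (fx φ) = 2 ∨ Nat.card (fx φ) = 4 ∨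
    Nat.card (fx φ) = 8 ∨ Nat.card (fx φ) = 16 := by
  have h := h16 ▸ Subgroup.card_subgroup_dvd_card (fx φ)
  have hd : ∀ n ∈ Nat.divisors 16, n = 1 ∨ n = 2 ∨ n = 4 ∨ n = 8 ∨ n = 16 := by decide
  exact hd _ (Nat.mem_divisors.mpr ⟨h, by norm_num⟩)

include h16 in
theorem eq_one_of_card_fx {φ : MulAut V} (h : Nat.card (fx φ) = 16) : φ = 1 := by
  have htop := (fx φ).eq_top_of_card_eq (h.trans h16.symm)
  exact MulEquiv.ext fun v => mem_fx.mp (htop ▸ Subgroup.mem_top v)

include h16 in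
theorem card_fx_mod {φ : MulAut V} {p : ℕ} [Fact p.Prime] (hφ : φ ^ p = 1) :
    16 ≡ Nat.card (fx φ) [MOD p] := by
  have hp : IsPGroup p (Subgroup.zpowers φ) := by
    intro g
    refine ⟨1, ?_⟩
    obtain ⟨g, i, rfl⟩ := g
    apply Subtype.ext
    show ((φ ^ i) ^ (p ^ 1) : MulAut V) = 1
    rw [pow_one, ← zpow_natCast, ← zpow_mul, mul_comm, zpow_mul, zpow_natCast, hφ, one_zpow]
  have h := hp.card_modEq_card_fixedPoints V
  have he : MulAction.fixedPoints (Subgroup.zpowers φ) V = (fx φ : Set V) := by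
    ext v
    rw [MulAction.mem_fixedPoints]
    constructor
    · intro hv; exact hv ⟨φ, Subgroup.mem_zpowers φ⟩
    · rintro hv ⟨g, i, rfl⟩
      have : φ ^ i ∈ MulAction.stabilizer (MulAut V) v := Subgroup.zpow_mem (MulAction.stabilizer (MulAut V) v) hv i
      exact this
  rw [h16, he] at h
  exact h

include h16 in
theorem fx_five {φ : MulAut V} (hφ : φ ^ 5 = 1) (h1 : φ ≠ 1) : fx φ = ⊥ := by
  haveI : Fact (Nat.Prime 5) := ⟨by norm_num⟩
  have h := card_fx_mod h16 hφ
  rw [← Subgroup.card_eq_one]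
  have h16' : Nat.card (fx φ) ≠ 16 := fun h => h1 (eq_one_of_card_fx h16 h)
  unfold Nat.ModEq at h
  rcases card_fx_cases h16 φ with e | e | e | e | e <;> rw [e] at h h16' ⊢ <;> omega

include h16 in
theorem fx_three {φ : MulAut V} (hφ : φ ^ 3 = 1) (h1 : φ ≠ 1) : fx φ = ⊥ ∨ Nat.card (fx φ) = 4 := by
  haveI : Fact (Nat.Prime 3) := ⟨Nat.prime_three⟩
  have h := card_fx_mod h16 hφ
  rw [← Subgroup.card_eq_one]
  have h16' : Nat.card (fx φ) ≠ 16 := fun h => h1 (eq_one_of_card_fx h16 h)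
  unfold Nat.ModEq at h
  rcases card_fx_cases h16 φ with e | e | e | e | e <;> rw [e] at h h16' ⊢ <;> omega

include h2 in
theorem range_le_fx {φ : MulAut V} (hφ : φ * φ = 1) : (δ φ).range ≤ fx φ := by
  rintro _ ⟨v, rfl⟩
  show φ (v * φ v) = v * φ v
  rw [map_mul, show φ (φ v) = v from DFunLike.congr_fun hφ v, mul_comm]

include h2 h16 in
theorem card_fx_mul_range (φ : MulAut V) : Nat.card (fx φ) * Nat.card (δ φ).range = 16 := by
  rw [← δ_ker h2 φ, ← Subgroup.index_ker, Subgroup.card_mul_index, h16]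

include h2 h16 in
theorem four_le_fx {φ : MulAut V} (hφ : φ * φ = 1) : 4 ≤ Nat.card (fx φ) := by
  have h1 := card_fx_mul_range h2 h16 φ
  have h3 := Nat.le_of_dvd Nat.card_pos (Subgroup.card_dvd_of_le (range_le_fx h2 hφ))
  rcases card_fx_cases h16 φ with e | e | e | e | e <;> rw [e] at h1 h3 ⊢ <;> omega

/-- `x ^ i (y ^ j v)`. -/
def word (x y : MulAut V) (ij : Fin 3 × Fin 3) : MulAut V := x ^ (ij.1 : ℕ) * y ^ (ij.2 : ℕ)

theorem word_mul {x y : MulAut V} (hx : x ^ 3 = 1) (hy : y ^ 3 = 1) (hxy : Commute x y) (a b : Fin 3 × Fin 3) :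
    word x y a * word x y b = word x y (a + b) := by
  have hp : ∀ (z : MulAut V), z ^ 3 = 1 → ∀ i j : Fin 3, z ^ (i : ℕ) * z ^ (j : ℕ) = z ^ ((i + j : Fin 3) : ℕ) := by
    intro z hz i j
    rw [← pow_add, Fin.val_add]
    conv_lhs => rw [← Nat.mod_add_div ((i : ℕ) + j) 3, pow_add, pow_mul, hz, one_pow, mul_one]
  unfold word
  rw [mul_assoc, ← mul_assoc (y ^ (a.2 : ℕ)), ← (hxy.pow_pow _ _).eq, mul_assoc, ← mul_assoc, hp x hx, hp y hy]
  rfl

include h16 in
/-- Nine commuting automorphisms cannot be semiregular outside a subgroup of order at most four. -/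
theorem not_semiregular (x y : MulAut V) (hx : x ^ 3 = 1) (hy : y ^ 3 = 1) (hxy : Commute x y)
    (F : Subgroup V) (hF : Nat.card F ≤ 4) (hFfix : ∀ ij, ∀ v ∈ F, word x y ij v = v)
    (hsemi : ∀ ij : Fin 3 × Fin 3, ij ≠ 0 → fx (word x y ij) ≤ F) : False := by
  classical
  letI : Fintype V := Fintype.ofFinite V
  have hinj : ∀ v, v ∉ F → Function.Injective (fun ij => word x y ij v) := by
    intro v hv a b hab
    by_contra hne
    apply hv
    refine hsemi (a - b) (sub_ne_zero.mpr hne) ?_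
    have hab' : word x y a v = word x y b v := hab
    apply (word x y b).injective
    rw [← MulAut.mul_apply, word_mul hx hy hxy, add_sub_cancel]
    exact hab'
  have hout : ∀ v, v ∉ F → ∀ ij, word x y ij v ∉ F := by
    intro v hv ij h
    apply hv
    have h1 := hFfix (-ij) _ h
    rw [← MulAut.mul_apply, word_mul hx hy hxy, neg_add_cancel] at h1
    have h2 : word x y (0 : Fin 3 × Fin 3) v = v := by simp [word]
    rw [h2] at h1
    exact h1 ▸ h
  let O : V → Finset V := fun v => Finset.univ.image (fun ij => word x y ij v)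
  have hO : ∀ v, v ∉ F → (O v).card = 9 := fun v hv => by
    rw [Finset.card_image_of_injective _ (hinj v hv)]; rfl
  let S : Finset V := Finset.univ.filter (· ∈ F)
  have hS : S.card = Nat.card F := by
    rw [Nat.card_eq_fintype_card, Fintype.card_subtype]
  have hS1 : 1 ≤ S.card := by rw [hS]; exact Nat.card_pos
  obtain ⟨v, -, hv⟩ := Finset.exists_mem_notMem_of_card_lt_card (s := S) (t := Finset.univ)
    (by rw [Finset.card_univ, ← Nat.card_eq_fintype_card, h16]; omega)
  replace hv : v ∉ F := fun h => hv (Finset.mem_filter.mpr ⟨Finset.mem_univ _, h⟩)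
  obtain ⟨w, -, hw⟩ := Finset.exists_mem_notMem_of_card_lt_card (s := S ∪ O v) (t := Finset.univ)
    (by
      rw [Finset.card_univ, ← Nat.card_eq_fintype_card, h16]
      have := Finset.card_union_le S (O v)
      rw [hO v hv] at this
      omega)
  rw [Finset.mem_union, not_or] at hw
  have hwF : w ∉ F := fun h => hw.1 (Finset.mem_filter.mpr ⟨Finset.mem_univ _, h⟩)
  have hd : Disjoint (O v) (O w) := by
    rw [Finset.disjoint_left]
    intro z hz hz'
    obtain ⟨a, -, rfl⟩ := Finset.mem_image.mp hz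
    obtain ⟨b, -, hb⟩ := Finset.mem_image.mp hz'
    apply hw.2
    refine Finset.mem_image.mpr ⟨-b + a, Finset.mem_univ _, ?_⟩
    rw [← word_mul hx hy hxy, MulAut.mul_apply, ← hb, ← MulAut.mul_apply, word_mul hx hy hxy, neg_add_cancel]
    simp [word]
  have h18 := Finset.card_le_univ (O v ∪ O w)
  rw [Finset.card_union_of_disjoint hd, hO v hv, hO w hwF, ← Nat.card_eq_fintype_card, h16] at h18
  omega

variable (α : Perm (Fin 6) →* MulAut V) (hα : Function.Injective α)

/-- A transvection with a centralizing element of order three. -/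
def Good (t : Perm (Fin 6)) : Prop :=
  Nat.card (fx (α t)) = 8 ∧ t * t = 1 ∧ ∃ s, s ^ 3 = 1 ∧ Commute s t ∧
    ∀ v, v ∈ fx (α s) → v ∈ fx (α t) → v ∈ (δ (α t)).range

theorem Good.conj {t : Perm (Fin 6)} (h : Good α t) (g : Perm (Fin 6)) : Good α (g * t * g⁻¹) := by
  obtain ⟨hc, htt, s, hs, hst, hv⟩ := h
  refine ⟨by rw [map_mul, map_mul, map_inv, card_fx_conj, hc], by
    calc g * t * g⁻¹ * (g * t * g⁻¹) = g * (t * t) * g⁻¹ := by group
      _ = 1 := by rw [htt]; group, g * s * g⁻¹, by rw [conj_pow, hs, mul_one, mul_inv_cancel], ?_, ?_⟩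
  · show g * s * g⁻¹ * (g * t * g⁻¹) = g * t * g⁻¹ * (g * s * g⁻¹)
    calc g * s * g⁻¹ * (g * t * g⁻¹) = g * (s * t) * g⁻¹ := by group
      _ = g * (t * s) * g⁻¹ := by rw [hst.eq]
      _ = g * t * g⁻¹ * (g * s * g⁻¹) := by group
  · intro v h1 h2'
    rw [map_mul, map_mul, map_inv] at h1 h2' ⊢
    obtain ⟨w, hw⟩ := hv _ ((fx_conj v).mp h1) ((fx_conj v).mp h2')
    refine ⟨α g w, ?_⟩
    have hw' : w * α t w = (α g)⁻¹ v := hw
    show α g w * (α g * α t * (α g)⁻¹) (α g w) = v
    have h3 := congrArg (α g) hw'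
    simpa using h3

include h2 h16 hα in
theorem good_of_pair {s1 s2 t : Perm (Fin 6)} (h1 : s1 ^ 3 = 1) (h2' : s2 ^ 3 = 1) (h12 : Commute s1 s2)
    (hne : ∀ ij : Fin 3 × Fin 3, ij ≠ 0 → s1 ^ (ij.1 : ℕ) * s2 ^ (ij.2 : ℕ) ≠ 1) (ht : t * t = 1) (ht1 : t ≠ 1)
    (ht2 : Commute t s2) (hts : t * s1 * t⁻¹ = s1⁻¹) (hF1 : Nat.card (fx (α s1)) = 4)
    (hF2 : Nat.card (fx (α s2)) = 4) : Good α t := by
  classical
  have happ : ∀ g h : Perm (Fin 6), ∀ v, α g (α h v) = α (g * h) v := fun g h v => by rw [map_mul]; rfl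
  have hcomm : ∀ g h : Perm (Fin 6), Commute g h → ∀ v, v ∈ fx (α g) → α h v ∈ fx (α g) := by
    intro g h hc v hv
    rw [mem_fx, happ, hc.eq, ← happ, mem_fx.mp hv]
  have hy3 : ∀ v, α s2 (α s2 (α s2 v)) = v := fun v => by
    rw [happ, happ, show s2 * s2 * s2 = 1 by rw [← h2']; simp [pow_succ], map_one]; rfl
  -- trivial intersection
  have hint : ∀ v, v ∈ fx (α s1) → v ∈ fx (α s2) → v = 1 := by
    intro v hv1 hv2
    by_contra hv
    have heq : fx (α s1) = fx (α s2) := by
      refine Subgroup.eq_of_le_of_card_ge ?_ (by rw [hF1, hF2])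
      intro w hw
      by_contra hw2
      have hwy := hcomm s1 s2 h12 w hw
      have hwy2 := hcomm s1 s2 h12 _ hwy
      have hmoves : α s2 w ≠ w := hw2
      have hd : ({1, v, w, α s2 w, α s2 (α s2 w)} : Finset V).card = 5 := by
        have e1 : ∀ z, z ∉ fx (α s2) → α s2 z ∉ fx (α s2) := fun z hz h =>
          hz (mem_fx.mpr ((α s2).injective (mem_fx.mp h)))
        have n1 : ∀ z, z ∉ fx (α s2) → z ≠ 1 ∧ z ≠ v := fun z hz =>
          ⟨fun h => hz (h ▸ Subgroup.one_mem _), fun h => hz (h ▸ hv2)⟩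
        have e2 : α s2 (α s2 w) ≠ w := fun h => hmoves (by
          have := congrArg (α s2) h
          rw [hy3] at this
          exact this.symm)
        have e3 : α s2 (α s2 w) ≠ α s2 w := fun h => hmoves ((α s2).injective h)
        obtain ⟨a1, a2⟩ := n1 w hw2
        obtain ⟨b1, b2⟩ := n1 _ (e1 w hw2)
        obtain ⟨c1, c2⟩ := n1 _ (e1 _ (e1 w hw2))
        simp [Finset.card_insert_of_notMem, Ne.symm a1, Ne.symm a2, Ne.symm b1, Ne.symm b2, Ne.symm c1,
          Ne.symm c2, Ne.symm hmoves, Ne.symm e2, Ne.symm e3, Ne.symm hv]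
      letI : Fintype V := Fintype.ofFinite V
      have hsub : ({1, v, w, α s2 w, α s2 (α s2 w)} : Finset V) ⊆ Finset.univ.filter (· ∈ fx (α s1)) := by
        intro z hz
        simp only [Finset.mem_insert, Finset.mem_singleton] at hz
        rw [Finset.mem_filter]
        refine ⟨Finset.mem_univ _, ?_⟩
        rcases hz with rfl | rfl | rfl | rfl | rfl
        exacts [Subgroup.one_mem _, hv1, hw, hwy, hwy2]
      have := Finset.card_le_card hsub
      rw [hd, ← Fintype.card_subtype, ← Nat.card_eq_fintype_card, hF1] at this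
      omega
    have hword : ∀ ij, word (α s1) (α s2) ij = α (s1 ^ (ij.1 : ℕ) * s2 ^ (ij.2 : ℕ)) := fun ij => by
      rw [map_mul, map_pow, map_pow]; rfl
    have hx : α s1 ^ 3 = 1 := by rw [← map_pow, h1, map_one]
    have hy : α s2 ^ 3 = 1 := by rw [← map_pow, h2', map_one]
    have hfixF : ∀ ij, ∀ z ∈ fx (α s1), word (α s1) (α s2) ij z = z := by
      intro ij z hz
      have a : (α s1) ^ (ij.1 : ℕ) ∈ MulAction.stabilizer (MulAut V) z := Subgroup.pow_mem (MulAction.stabilizer (MulAut V) z) hz _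
      have b : (α s2) ^ (ij.2 : ℕ) ∈ MulAction.stabilizer (MulAut V) z := Subgroup.pow_mem (MulAction.stabilizer (MulAut V) z) (show z ∈ fx (α s2) from heq ▸ hz) _
      exact Subgroup.mul_mem _ a b
    refine not_semiregular h16 _ _ hx hy (h12.map α) (fx (α s1)) hF1.le hfixF (fun ij hij => ?_)
    have hne1 : word (α s1) (α s2) ij ≠ 1 := by
      rw [hword, ← map_one α]; exact fun h => hne ij hij (hα h)
    have h3 : word (α s1) (α s2) ij ^ 3 = 1 := by
      rw [word, ((h12.map α).pow_pow _ _).mul_pow, ← pow_mul, ← pow_mul, mul_comm (ij.1 : ℕ), mul_comm (ij.2 : ℕ),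
        pow_mul, pow_mul, hx, hy, one_pow, one_pow, one_mul]
    have hle : fx (α s1) ≤ fx (word (α s1) (α s2) ij) := fun z hz => hfixF ij z hz
    have hc : Nat.card (fx (word (α s1) (α s2) ij)) = 4 := by
      rcases fx_three h16 h3 hne1 with h | h
      · exact absurd (Subgroup.mem_bot.mp (h ▸ hle hv1)) hv
      · exact h
    exact (Subgroup.eq_of_le_of_card_ge hle (by rw [hc, hF1])).ge
  -- the involution centralizes the fixed group of `s1`
  have htF1 : ∀ v, v ∈ fx (α s1) → α t v ∈ fx (α s1) := by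
    intro v hv
    have h' : s1 * t = t * s1⁻¹ := by rw [← hts]; calc s1 * t = t * t * s1 * t := by rw [ht, one_mul]
      _ = t * (t * s1 * t⁻¹) := by rw [inv_eq_of_mul_eq_one_left ht]; group
    rw [mem_fx, happ, h', ← happ, map_inv]
    have hs : (α s1)⁻¹ v = v := by
      conv_lhs => rw [← mem_fx.mp hv]
      simp
    rw [hs]
  have hfix1 : fx (α s1) ≤ fx (α t) := by
    intro v hv
    by_contra hvt
    have hv1 : v ≠ 1 := fun h => hvt (h ▸ Subgroup.one_mem _)
    have hv2 : v ∉ fx (α s2) := fun h => hv1 (hint v hv h)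
    have hwy := hcomm s1 s2 h12 v hv
    have hwy2 := hcomm s1 s2 h12 _ hwy
    have hmoves : α s2 v ≠ v := hv2
    have e1 : ∀ z, z ∉ fx (α s2) → α s2 z ∉ fx (α s2) := fun z hz h =>
      hz (mem_fx.mpr ((α s2).injective (mem_fx.mp h)))
    have b1 : α s2 v ≠ 1 := fun h => e1 v hv2 (h ▸ Subgroup.one_mem _)
    have c1 : α s2 (α s2 v) ≠ 1 := fun h => e1 _ (e1 v hv2) (h ▸ Subgroup.one_mem _)
    have e2 : α s2 (α s2 v) ≠ v := fun h => hmoves (by
      have := congrArg (α s2) h
      rw [hy3] at this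
      exact this.symm)
    have e3 : α s2 (α s2 v) ≠ α s2 v := fun h => hmoves ((α s2).injective h)
    letI : Fintype V := Fintype.ofFinite V
    have hd : ({1, v, α s2 v, α s2 (α s2 v)} : Finset V).card = 4 := by
      simp [Finset.card_insert_of_notMem, Ne.symm hv1, Ne.symm b1, Ne.symm c1, Ne.symm hmoves, Ne.symm e2,
        Ne.symm e3]
    have heq : ({1, v, α s2 v, α s2 (α s2 v)} : Finset V) = Finset.univ.filter (· ∈ fx (α s1)) := by
      refine Finset.eq_of_subset_of_card_le ?_ (by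
        rw [hd, ← Fintype.card_subtype, ← Nat.card_eq_fintype_card, hF1])
      intro z hz
      simp only [Finset.mem_insert, Finset.mem_singleton] at hz
      rw [Finset.mem_filter]
      refine ⟨Finset.mem_univ _, ?_⟩
      rcases hz with rfl | rfl | rfl | rfl
      exacts [Subgroup.one_mem _, hv, hwy, hwy2]
    have hmem : α t v ∈ ({1, v, α s2 v, α s2 (α s2 v)} : Finset V) :=
      heq ▸ Finset.mem_filter.mpr ⟨Finset.mem_univ _, htF1 v hv⟩
    have ht' : α t (α t v) = v := by rw [happ, ht, map_one]; rfl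
    have hct : ∀ z, α t (α s2 z) = α s2 (α t z) := fun z => by rw [happ, happ, ht2.eq]
    simp only [Finset.mem_insert, Finset.mem_singleton] at hmem
    rcases hmem with h | h | h | h
    · exact hv1 ((α t).map_eq_one_iff.mp h)
    · exact hvt h
    · rw [h, hct, h] at ht'
      exact e2 ht'
    · rw [h, hct, hct, h, hy3] at ht'
      exact hmoves ht'
  -- it moves some point fixed by `s2`
  obtain ⟨v0, hv0, hv0t⟩ : ∃ v0, v0 ∈ fx (α s2) ∧ α t v0 ≠ v0 := by
    by_contra hall
    push Not at hall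
    apply ht1
    apply hα
    rw [map_one]
    refine eq_one_of_card_fx h16 ?_
    have hinj : Function.Injective
        (fun p : fx (α s1) × fx (α s2) => (⟨(p.1 : V) * p.2, Subgroup.mul_mem _ (hfix1 p.1.2) (hall _ p.2.2)⟩ : fx (α t))) := by
      rintro ⟨a, b⟩ ⟨a', b'⟩ h
      have h' : (a : V) * b = a' * b' := congrArg Subtype.val h
      have hmem : (a' : V)⁻¹ * a = b' * (b : V)⁻¹ := by
        rw [eq_mul_inv_iff_mul_eq, mul_assoc, h', inv_mul_cancel_left]
      have h0 := hint _ ((fx (α s1)).mul_mem ((fx (α s1)).inv_mem a'.2) a.2)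
        (hmem ▸ (fx (α s2)).mul_mem b'.2 ((fx (α s2)).inv_mem b.2))
      have ha : a = a' := Subtype.ext (inv_mul_eq_one.mp h0).symm
      subst ha
      exact Prod.ext rfl (Subtype.ext (mul_left_cancel h'))
    have h := Nat.card_le_card_of_injective _ hinj
    rw [Nat.card_prod, hF1, hF2] at h
    have := (h16 ▸ Subgroup.card_le_card_group (fx (α t)) : Nat.card (fx (α t)) ≤ 16)
    omega
  have ht' : α t * α t = 1 := by rw [← map_mul, ht, map_one]
  have hu0s : δ (α t) v0 ∈ fx (α s2) := Subgroup.mul_mem _ hv0 (hcomm s2 t ht2.symm v0 hv0)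
  have hu0t : δ (α t) v0 ∈ fx (α t) := range_le_fx h2 ht' ⟨v0, rfl⟩
  have hu0 : δ (α t) v0 ≠ 1 := fun h => by
    have : v0 ∈ (δ (α t)).ker := h
    rw [δ_ker h2] at this
    exact hv0t this
  refine ⟨?_, ht, s2, h2', ht2.symm, fun v hvs hvt => ?_⟩
  · have hlt : fx (α s1) < fx (α t) := lt_of_le_of_ne hfix1 fun h => hu0 (hint _ (h ▸ hu0t) hu0s)
    have h4 : 4 < Nat.card (fx (α t)) := by
      by_contra hle
      exact hlt.ne (Subgroup.eq_of_le_of_card_ge hlt.le (by omega))
    have hne16 : Nat.card (fx (α t)) ≠ 16 := fun h => ht1 (hα (by rw [map_one]; exact eq_one_of_card_fx h16 h))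
    rcases card_fx_cases h16 (α t) with e | e | e | e | e <;> omega
  · by_cases hv1 : v = 1
    · exact hv1 ▸ Subgroup.one_mem _
    by_cases hvu : v = δ (α t) v0
    · exact ⟨v0, hvu.symm⟩
    exfalso
    letI : Fintype V := Fintype.ofFinite V
    have hsub : ({1, δ (α t) v0, v} : Finset V) ⊆ Finset.univ.filter (· ∈ fx (α s2) ⊓ fx (α t)) := by
      intro z hz
      simp only [Finset.mem_insert, Finset.mem_singleton] at hz
      rw [Finset.mem_filter]
      refine ⟨Finset.mem_univ _, ?_⟩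
      rcases hz with rfl | rfl | rfl
      exacts [Subgroup.one_mem _, ⟨hu0s, hu0t⟩, ⟨hvs, hvt⟩]
    have hc3 : ({1, δ (α t) v0, v} : Finset V).card = 3 := by
      simp [Finset.card_insert_of_notMem, Ne.symm hu0, Ne.symm hv1, Ne.symm hvu]
    have h3 := Finset.card_le_card hsub
    rw [← Fintype.card_subtype, ← Nat.card_eq_fintype_card, hc3] at h3
    change 3 ≤ Nat.card (fx (α s2) ⊓ fx (α t) : Subgroup V) at h3
    have hd := Subgroup.card_dvd_of_le (inf_le_left : fx (α s2) ⊓ fx (α t) ≤ fx (α s2))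
    rw [hF2] at hd
    have hne : Nat.card (fx (α s2) ⊓ fx (α t) : Subgroup V) ≠ 4 := fun h => hv0t (by
      have := Subgroup.eq_of_le_of_card_ge (inf_le_left : fx (α s2) ⊓ fx (α t) ≤ fx (α s2)) (by rw [hF2, h])
      exact (this.ge hv0).2)
    have := Nat.le_of_dvd (by norm_num) hd
    interval_cases hc : Nat.card (fx (α s2) ⊓ fx (α t) : Subgroup V) <;> omega

/-- `(0 1 2)` -/
def σ1 : Perm (Fin 6) := c[0, 1, 2]
/-- `(3 4 5)` -/
def σ2 : Perm (Fin 6) := c[3, 4, 5]
/-- `(0 1 2)(3 4 5)` -/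
def ρ1 : Perm (Fin 6) := σ1 * σ2
/-- `(0 1 2)(3 5 4)` -/
def ρ2 : Perm (Fin 6) := σ1 * σ2⁻¹

include h2 h16 hα in
theorem card_fx_double {d : Perm (Fin 6)} (hd : IsConj (swap (0 : Fin 6) 1 * swap 2 3) d) :
    Nat.card (fx (α d)) = 4 := by
  obtain ⟨g, rfl⟩ := isConj_iff.mp hd
  rw [map_mul α, map_mul α, map_inv, card_fx_conj]
  set d0 : Perm (Fin 6) := swap (0 : Fin 6) 1 * swap 2 3 with hd0
  set d1 : Perm (Fin 6) := swap (1 : Fin 6) 2 * swap 3 4 with hd1
  have hsq : α d0 * α d0 = 1 := by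
    rw [← map_mul, show d0 * d0 = 1 by decide, map_one]
  have h4 := four_le_fx h2 h16 hsq
  rcases card_fx_cases h16 (α d0) with e | e | e | e | e <;> first | omega | exfalso
  all_goals
    obtain ⟨g', hg'⟩ : ∃ g' : Perm (Fin 6), g' * d0 * g'⁻¹ = d1 :=
      ⟨⟨![1, 2, 3, 4, 5, 0], ![5, 0, 1, 2, 3, 4], by decide, by decide⟩, by decide⟩
    have he1 : Nat.card (fx (α d1)) = Nat.card (fx (α d0)) := by
      rw [← hg', map_mul, map_mul, map_inv, card_fx_conj]
    have hle : fx (α d0) ⊓ fx (α d1) ≤ fx (α (d0 * d1)) := fun v hv => by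
      rw [mem_fx, map_mul, MulAut.mul_apply, mem_fx.mp hv.2, mem_fx.mp hv.1]
    have h5 := fx_five h16 (φ := α (d0 * d1)) (by rw [← map_pow, show (d0 * d1) ^ 5 = 1 by decide +kernel, map_one])
      (by rw [← map_one α]; exact fun h => absurd (hα h) (by decide))
    rw [h5, le_bot_iff] at hle
    have hinj : Function.Injective (fun p : fx (α d0) × fx (α d1) => (p.1 : V) * p.2) := by
      rintro ⟨a, b⟩ ⟨a', b'⟩ h
      have h' : (a : V) * b = a' * b' := h
      have hmem : (a' : V)⁻¹ * a = b' * (b : V)⁻¹ := by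
        rw [eq_mul_inv_iff_mul_eq, mul_assoc, h', inv_mul_cancel_left]
      have h0 : (a' : V)⁻¹ * a ∈ fx (α d0) ⊓ fx (α d1) := ⟨(fx (α d0)).mul_mem ((fx (α d0)).inv_mem a'.2) a.2,
        hmem ▸ (fx (α d1)).mul_mem b'.2 ((fx (α d1)).inv_mem b.2)⟩
      rw [hle, Subgroup.mem_bot] at h0
      have ha : a = a' := Subtype.ext (inv_mul_eq_one.mp h0).symm
      subst ha
      exact Prod.ext rfl (Subtype.ext (mul_left_cancel h'))
    have h := Nat.card_le_card_of_injective _ hinj
    rw [Nat.card_prod, he1, e, h16] at h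
    omega

include h2 h16 hα in
theorem pair {t t' : Perm (Fin 6)} (ht : Good α t) (ht' : Good α t') (hc : Commute t t')
    (hd : Nat.card (fx (α (t * t'))) = 4) :
    (δ (α t)).range ≤ fx (α t') ∧ (δ (α t')).range ≤ fx (α t) ∧
      fx (α (t * t')) = (δ (α t)).range ⊔ (δ (α t')).range := by
  have r2 : ∀ s, Good α s → Nat.card (δ (α s)).range = 2 := fun s hs => by
    have h := card_fx_mul_range h2 h16 (α s)
    rw [hs.1] at h
    omega
  have hsq : ∀ s, Good α s → α s * α s = 1 := fun s hs => by rw [← map_mul, hs.2.1, map_one]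
  have key : ∀ s s', Good α s → Commute s s' → (δ (α s)).range ≤ fx (α s') := by
    intro s s' hs hss u hu
    obtain ⟨v, rfl⟩ := hu
    have hmem : α s' (δ (α s) v) ∈ (δ (α s)).range := ⟨α s' v, by
      show α s' v * α s (α s' v) = α s' (v * α s v)
      rw [map_mul (α s'), ← MulAut.mul_apply, ← map_mul α, hss.eq, map_mul, MulAut.mul_apply]⟩
    rcases eq_or_ne (δ (α s) v) 1 with h | h
    · rw [mem_fx, h, map_one]
    · haveI : Fintype (δ (α s)).range := Fintype.ofFinite _
      by_contra hne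
      have hne1 : α s' (δ (α s) v) ≠ 1 := fun e => h ((α s').map_eq_one_iff.mp e)
      have h3 : 3 ≤ Nat.card (δ (α s)).range := by
        classical
        rw [Nat.card_eq_fintype_card]
        refine Fintype.two_lt_card_iff.mpr ⟨1, ⟨_, ⟨v, rfl⟩⟩, ⟨_, hmem⟩, ?_, ?_, ?_⟩
        · exact fun e => h (congrArg Subtype.val e).symm
        · exact fun e => hne1 (congrArg Subtype.val e).symm
        · exact fun e => hne (congrArg Subtype.val e).symm
      rw [r2 s hs] at h3
      omega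
  have k1 := key t t' ht hc
  have k2 := key t' t ht' hc.symm
  have hle : (δ (α t)).range ⊔ (δ (α t')).range ≤ fx (α (t * t')) := by
    refine sup_le (fun u hu => ?_) fun u hu => ?_
    · rw [mem_fx, map_mul, MulAut.mul_apply, mem_fx.mp (k1 hu), mem_fx.mp (range_le_fx h2 (hsq t ht) hu)]
    · rw [mem_fx, map_mul, MulAut.mul_apply, mem_fx.mp (range_le_fx h2 (hsq t' ht') hu), mem_fx.mp (k2 hu)]
  refine ⟨k1, k2, (Subgroup.eq_of_le_of_card_ge hle ?_).symm⟩
  rw [hd]
  by_contra hlt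
  have hne : (δ (α t)).range ≠ (δ (α t')).range := by
    intro he
    have hsub : (δ (α (t * t'))).range ≤ (δ (α t)).range := by
      rintro _ ⟨v, rfl⟩
      have : δ (α (t * t')) v = δ (α t') v * δ (α t) (α t' v) := by
        show v * α (t * t') v = v * α t' v * (α t' v * α t (α t' v))
        rw [mul_assoc, ← mul_assoc (α t' v), h2, one_mul, map_mul, MulAut.mul_apply]
      rw [this]
      exact Subgroup.mul_mem _ (he.symm ▸ ⟨v, rfl⟩) ⟨_, rfl⟩
    have h1 := card_fx_mul_range h2 h16 (α (t * t'))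
    rw [hd] at h1
    have h3 := Nat.le_of_dvd Nat.card_pos (Subgroup.card_dvd_of_le hsub)
    rw [r2 t ht] at h3
    omega
  have hd1 := Subgroup.card_dvd_of_le (le_sup_left : (δ (α t)).range ≤ (δ (α t)).range ⊔ (δ (α t')).range)
  rw [r2 t ht] at hd1
  have h2' : Nat.card ((δ (α t)).range ⊔ (δ (α t')).range : Subgroup V) = 2 := by
    obtain ⟨k, hk⟩ := hd1
    have h4 := (Subgroup.card_dvd_of_le hle)
    rw [hd, hk] at h4
    have := Nat.le_of_dvd (by norm_num) h4
    have hpos : 0 < Nat.card ((δ (α t)).range ⊔ (δ (α t')).range : Subgroup V) := Nat.card_pos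
    omega
  exact hne ((Subgroup.eq_of_le_of_card_ge le_sup_left (by rw [h2', r2 t ht])).trans
    (Subgroup.eq_of_le_of_card_ge le_sup_right (by rw [h2', r2 t' ht'])).symm)

include h2 h16 hα in
/-- Three commuting good involutions and their common fixed group of order four. -/
theorem exists_triple : ∃ a b c : Perm (Fin 6), ∃ U : Subgroup V, Good α a ∧ Good α b ∧ Good α c ∧
    Commute a b ∧ Commute a c ∧ Commute b c ∧
    a ≠ 1 ∧ b ∉ Subgroup.zpowers a ∧ c ∉ Subgroup.closure {a, b} ∧ Nat.card U = 4 ∧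
    U = fx (α (a * b)) ∧ U = fx (α (a * c)) ∧ U = fx (α (b * c)) ∧
    U ≤ fx (α a) ∧ U ≤ fx (α b) ∧ U ≤ fx (α c) ∧
    (δ (α a)).range ≤ U ∧ (δ (α b)).range ≤ U ∧ (δ (α c)).range ≤ U := by
  -- some element of the Sylow 3-subgroup has fixed points
  have hx : α σ1 ^ 3 = 1 := by rw [← map_pow, show σ1 ^ 3 = 1 by decide, map_one]
  have hy : α σ2 ^ 3 = 1 := by rw [← map_pow, show σ2 ^ 3 = 1 by decide, map_one]
  have h12 : Commute σ1 σ2 := show σ1 * σ2 = σ2 * σ1 by decide
  obtain ⟨ij, hij, hfix⟩ : ∃ ij : Fin 3 × Fin 3, ij ≠ 0 ∧ fx (word (α σ1) (α σ2) ij) ≠ ⊥ := by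
    by_contra hall
    push Not at hall
    exact not_semiregular h16 _ _ hx hy (h12.map α) ⊥ (by rw [Subgroup.card_bot]; norm_num)
      (fun ij v hv => by rw [Subgroup.mem_bot.mp hv, map_one]) (fun ij hij => (hall ij hij).le)
  set z := σ1 ^ (ij.1 : ℕ) * σ2 ^ (ij.2 : ℕ) with hz
  have hwz : word (α σ1) (α σ2) ij = α z := by rw [hz, map_mul, map_pow, map_pow]; rfl
  have hdec : ∀ ij : Fin 3 × Fin 3, ij ≠ 0 →
      (σ1 ^ (ij.1 : ℕ) * σ2 ^ (ij.2 : ℕ)) ^ 3 = 1 ∧ σ1 ^ (ij.1 : ℕ) * σ2 ^ (ij.2 : ℕ) ≠ 1 ∧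
      ((σ1 ^ (ij.1 : ℕ) * σ2 ^ (ij.2 : ℕ)).cycleType = σ1.cycleType ∨
        (σ1 ^ (ij.1 : ℕ) * σ2 ^ (ij.2 : ℕ)).cycleType = ρ1.cycleType) := by decide +kernel
  obtain ⟨hz3, hz1, hcases⟩ := hdec ij hij
  rw [← hz] at hz3 hz1 hcases
  have hz4 : Nat.card (fx (α z)) = 4 :=
    (fx_three h16 (by rw [← map_pow, hz3, map_one]) (fun h => hz1 (hα (h.trans (map_one α).symm)))).resolve_left
      (hwz ▸ hfix)
  have hlike : ∀ w : Perm (Fin 6), z.cycleType = w.cycleType → Nat.card (fx (α w)) = 4 := by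
    intro w hw
    obtain ⟨g, hg⟩ := isConj_iff.mp (Perm.isConj_iff_cycleType_eq.mpr hw)
    rw [← hg, map_mul, map_mul, map_inv, card_fx_conj, hz4]
  have hdbl : ∀ d : Perm (Fin 6), d.cycleType = (swap (0 : Fin 6) 1 * swap 2 3).cycleType →
      Nat.card (fx (α d)) = 4 := fun d hd => card_fx_double h2 h16 α hα (Perm.isConj_iff_cycleType_eq.mpr hd.symm)
  suffices h : ∃ a b c : Perm (Fin 6), Good α a ∧ Good α b ∧ Good α c ∧ Commute a b ∧ Commute a c ∧
      Commute b c ∧ a ≠ 1 ∧ b ∉ Subgroup.zpowers a ∧ c ∉ Subgroup.closure {a, b} ∧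
      Nat.card (fx (α (a * b))) = 4 ∧ Nat.card (fx (α (a * c))) = 4 ∧ Nat.card (fx (α (b * c))) = 4 by
    obtain ⟨a, b, c, ga, gb, gc, hab, hac, hbc, n1, n2, n3, cab, cac, cbc⟩ := h
    obtain ⟨ab1, ab2, ab3⟩ := pair h2 h16 α hα ga gb hab cab
    obtain ⟨ac1, ac2, ac3⟩ := pair h2 h16 α hα ga gc hac cac
    obtain ⟨bc1, bc2, bc3⟩ := pair h2 h16 α hα gb gc hbc cbc
    have sq : ∀ t, Good α t → (δ (α t)).range ≤ fx (α t) := fun t ht =>
      range_le_fx h2 (by rw [← map_mul, ht.2.1, map_one])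
    have hmul : ∀ s t : Perm (Fin 6), fx (α s) ⊓ fx (α t) ≤ fx (α (s * t)) := fun s t v hv => by
      rw [mem_fx, map_mul, MulAut.mul_apply, mem_fx.mp hv.2, mem_fx.mp hv.1]
    have hUa : fx (α (a * b)) ≤ fx (α a) := ab3.le.trans (sup_le (sq a ga) ab2)
    have hUb : fx (α (a * b)) ≤ fx (α b) := ab3.le.trans (sup_le ab1 (sq b gb))
    have ra : (δ (α a)).range ≤ fx (α (a * b)) := le_sup_left.trans ab3.ge
    have rb : (δ (α b)).range ≤ fx (α (a * b)) := le_sup_right.trans ab3.ge
    have rc : (δ (α c)).range ≤ fx (α (a * b)) := (le_inf ac2 bc2).trans (hmul a b)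
    have e2 : fx (α (a * c)) = fx (α (a * b)) :=
      Subgroup.eq_of_le_of_card_ge (ac3.le.trans (sup_le ra rc)) (by rw [cab, cac])
    have e3 : fx (α (b * c)) = fx (α (a * b)) :=
      Subgroup.eq_of_le_of_card_ge (bc3.le.trans (sup_le rb rc)) (by rw [cab, cbc])
    have hUc : fx (α (a * b)) ≤ fx (α c) := e2 ▸ ac3.le.trans (sup_le ac1 (sq c gc))
    exact ⟨a, b, c, _, ga, gb, gc, hab, hac, hbc, n1, n2, n3, cab, rfl, e2.symm, e3.symm, hUa, hUb, hUc, ra, rb, rc⟩
  have hclosure : ∀ a b : Perm (Fin 6), a * a = 1 → b * b = 1 → a * b = b * a →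
      ∀ x ∈ Subgroup.closure {a, b}, x = 1 ∨ x = a ∨ x = b ∨ x = a * b := by
    intro a b ha hb hab x hx
    induction hx using Subgroup.closure_induction with
    | mem x hx =>
      rcases hx with rfl | rfl
      · exact Or.inr (Or.inl rfl)
      · exact Or.inr (Or.inr (Or.inl rfl))
    | one => exact Or.inl rfl
    | mul x y _ _ hx hy =>
      have e1 : a * (a * b) = b := by rw [← mul_assoc, ha, one_mul]
      have e2 : a * b * b = a := by rw [mul_assoc, hb, mul_one]
      have e3 : b * (a * b) = a := by rw [hab, ← mul_assoc, hb, one_mul]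
      have e4 : a * b * a = b := by rw [mul_assoc, ← hab, e1]
      have e5 : a * b * (a * b) = 1 := by rw [← mul_assoc, e4, hb]
      rcases hx with rfl | rfl | rfl | rfl <;> rcases hy with rfl | rfl | rfl | rfl <;>
        simp [ha, hb, e1, e2, e3, e4, e5, ← hab]
    | inv x _ hx =>
      rcases hx with rfl | rfl | rfl | rfl
      · exact Or.inl inv_one
      · exact Or.inr (Or.inl (inv_eq_of_mul_eq_one_left ha))
      · exact Or.inr (Or.inr (Or.inl (inv_eq_of_mul_eq_one_left hb)))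
      · refine Or.inr (Or.inr (Or.inr (inv_eq_of_mul_eq_one_left ?_)))
        rw [← mul_assoc, mul_assoc a b a, ← hab, ← mul_assoc, ha, one_mul, hb]
  have hzp : ∀ a x : Perm (Fin 6), a * a = 1 → x ∈ Subgroup.zpowers a → x = 1 ∨ x = a := by
    intro a x ha hx
    have h := hclosure a a ha ha rfl x (by simpa [← Subgroup.zpowers_eq_closure] using hx)
    rcases h with h | h | h | h
    exacts [Or.inl h, Or.inr h, Or.inr h, Or.inl (h.trans ha)]
  rcases hcases with hI | hII
  · have g : Good α (swap 0 1) := good_of_pair h2 h16 α hα (s1 := σ1) (s2 := σ2) (by decide) (by decide) h12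
      (by decide +kernel) (by decide) (by decide) (show _ * _ = _ * _ by decide) (by decide)
      (hlike _ hI) (hlike _ (hI.trans (by decide +kernel)))
    have gb : Good α (swap 2 3) := by
      have h := g.conj α (swap 0 2 * swap 1 3)
      rwa [show (swap (0 : Fin 6) 2 * swap 1 3) * swap 0 1 * (swap 0 2 * swap 1 3)⁻¹ = swap 2 3 by decide] at h
    have gc : Good α (swap 4 5) := by
      have h := g.conj α (swap 0 4 * swap 1 5)
      rwa [show (swap (0 : Fin 6) 4 * swap 1 5) * swap 0 1 * (swap 0 4 * swap 1 5)⁻¹ = swap 4 5 by decide] at h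
    refine ⟨_, _, _, g, gb, gc, show _ * _ = _ * _ by decide, show _ * _ = _ * _ by decide,
      show _ * _ = _ * _ by decide, by decide, fun h => ?_, fun h => ?_,
      hdbl _ (by decide +kernel), hdbl _ (by decide +kernel), hdbl _ (by decide +kernel)⟩
    · rcases hzp _ _ (by decide) h with h | h <;> revert h <;> decide
    · rcases hclosure _ _ (by decide) (by decide) (by decide) _ h with h | h | h | h <;> revert h <;> decide
  · have g : Good α (swap 0 3 * (swap 1 5 * swap 2 4)) := good_of_pair h2 h16 α hα (s1 := ρ1) (s2 := ρ2)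
      (by decide) (by decide) (show _ * _ = _ * _ by decide)
      (by decide +kernel) (by decide) (by decide) (show _ * _ = _ * _ by decide) (by decide)
      (hlike _ hII) (hlike _ (hII.trans (by decide +kernel)))
    have gb : Good α (swap 0 3 * (swap 1 2 * swap 4 5)) := by
      have h := g.conj α (swap 2 5)
      rwa [show swap (2 : Fin 6) 5 * (swap 0 3 * (swap 1 5 * swap 2 4)) * (swap 2 5)⁻¹ =
        swap 0 3 * (swap 1 2 * swap 4 5) by decide] at h
    have gc : Good α (swap 0 3 * (swap 1 4 * swap 2 5)) := by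
      have h := g.conj α (swap 4 5)
      rwa [show swap (4 : Fin 6) 5 * (swap 0 3 * (swap 1 5 * swap 2 4)) * (swap 4 5)⁻¹ =
        swap 0 3 * (swap 1 4 * swap 2 5) by decide] at h
    refine ⟨_, _, _, g, gb, gc, show _ * _ = _ * _ by decide, show _ * _ = _ * _ by decide,
      show _ * _ = _ * _ by decide, by decide, fun h => ?_, fun h => ?_,
      hdbl _ (by decide +kernel), hdbl _ (by decide +kernel), hdbl _ (by decide +kernel)⟩
    · rcases hzp _ _ (by decide) h with h | h <;> revert h <;> decide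
    · rcases hclosure _ _ (by decide) (by decide) (by decide) _ h with h | h | h | h <;> revert h <;> decide

end CfsgLib.AltEight.Sixteen
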