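import Cfsg.Agent.Lib.AltEight.SixOnSixteen
import Mathlib.GroupTheory.GroupAction.ConjAct

/-!
# An extension of an elementary group of order 16 by `S₆` acting faithfully has sectional 2-rank at least five
-/

set_option autoImplicit false
set_option linter.style.haveILetI false
set_option linter.unusedSectionVars false
set_option maxHeartbeats 1000000

namespace CfsgLib.AltEight.Sixteen

theorem sq_eq_one_of_gens {Q : Type*} [Group Q] (T : Set Q) (hT : Subgroup.closure T = ⊤)
    (h1 : ∀ s ∈ T, s * s = 1) (h2 : ∀ s ∈ T, ∀ t ∈ T, s * t * (s * t) = 1) : ∀ g : Q, g * g = 1 := by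
  have hc : ∀ s ∈ T, ∀ t ∈ T, s * t = t * s := fun s hs t ht => by
    have h := eq_inv_of_mul_eq_one_left (h2 s hs t ht)
    rwa [mul_inv_rev, inv_eq_of_mul_eq_one_left (h1 s hs), inv_eq_of_mul_eq_one_left (h1 t ht)] at h
  have hcen : ∀ s ∈ T, s ∈ Subgroup.center Q := by
    intro s hs
    rw [Subgroup.mem_center_iff]
    intro g
    have : g ∈ Subgroup.centralizer ({s} : Set Q) :=
      ((Subgroup.closure_le (Subgroup.centralizer ({s} : Set Q))).mpr fun t ht =>
        Subgroup.mem_centralizer_singleton_iff.mpr (hc t ht s hs)) (hT ▸ Subgroup.mem_top g)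
    exact Subgroup.mem_centralizer_singleton_iff.mp this
  have hall : ∀ g : Q, g ∈ Subgroup.center Q := fun g =>
    ((Subgroup.closure_le _).mpr hcen) (hT ▸ Subgroup.mem_top g)
  intro g
  induction (show g ∈ Subgroup.closure T from hT ▸ Subgroup.mem_top g) using Subgroup.closure_induction with
  | mem x hx => exact h1 x hx
  | one => exact mul_one 1
  | mul x y _ _ hx hy =>
    calc x * y * (x * y) = x * (y * x) * y := by group
      _ = x * (x * y) * y := by rw [Subgroup.mem_center_iff.mp (hall x) y]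
      _ = 1 := by rw [← mul_assoc x x y, hx, one_mul, hy]
  | inv x _ hx => rw [← mul_inv_rev, hx, inv_one]

theorem two_mul_card_le {G : Type*} [Group G] [Finite G] {A B : Subgroup G} (h : A < B) :
    2 * Nat.card A ≤ Nat.card B := by
  obtain ⟨k, hk⟩ := Subgroup.card_dvd_of_le h.le
  have hne : Nat.card A ≠ Nat.card B := fun e => h.ne (Subgroup.eq_of_le_of_card_ge h.le e.ge)
  have : 0 < Nat.card B := Nat.card_pos
  rcases k with _ | _ | k
  · omega
  · exact absurd (by simpa using hk.symm) hne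
  · rw [hk]; nlinarith

/-- The rank five section. -/
theorem not_sectional_four {E : Type*} [Group E] [Finite E] (V : Subgroup E) [V.Normal]
    (hV2 : ∀ v ∈ V, v * v = 1) (hV16 : Nat.card V = 16) (π : E →* Equiv.Perm (Fin 6))
    (hπ : Function.Surjective π) (hker : π.ker = V) (hcent : Subgroup.centralizer (V : Set E) ≤ V) :
    ¬ Cfsg.SectionalPRankLE 2 4 E := by
  intro hr
  have hVinv : ∀ v ∈ V, v⁻¹ = v := fun v hv => inv_eq_of_mul_eq_one_left (hV2 v hv)
  have hVc : ∀ v ∈ V, ∀ w ∈ V, v * w = w * v := fun v hv w hw => by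
    calc v * w = (v * w)⁻¹ := (hVinv _ (V.mul_mem hv hw)).symm
      _ = w * v := by rw [mul_inv_rev, hVinv v hv, hVinv w hw]
  letI : CommGroup V := { (inferInstance : Group V) with mul_comm := fun a b => Subtype.ext (hVc a a.2 b b.2) }
  let act : E →* MulAut V := MulAut.conjNormal
  have hle : π.ker ≤ act.ker := by
    rw [hker]
    intro e he
    rw [MonoidHom.mem_ker]
    refine MulEquiv.ext fun v => Subtype.ext ?_
    show e * (v : E) * e⁻¹ = v
    rw [hVc e he v v.2, mul_inv_cancel_right]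
  let α : Equiv.Perm (Fin 6) →* MulAut V := π.liftOfSurjective hπ ⟨act, hle⟩
  have hαπ : ∀ e : E, α (π e) = act e := fun e => MonoidHom.liftOfRightInverse_comp_apply _ _ _ ⟨act, hle⟩ e
  have happ : ∀ (e : E) (v : V), ((α (π e) v : V) : E) = e * v * e⁻¹ := fun e v => by rw [hαπ]; rfl
  have hα : Function.Injective α := by
    rw [injective_iff_map_eq_one]
    intro q hq
    obtain ⟨e, rfl⟩ := hπ q
    rw [← MonoidHom.mem_ker, hker]
    refine hcent (Subgroup.mem_centralizer_iff.mpr fun v hv => ?_)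
    have h := happ e ⟨v, hv⟩
    rw [hq] at h
    exact eq_mul_inv_iff_mul_eq.mp h
  have h2 : ∀ v : V, v * v = 1 := fun v => Subtype.ext (hV2 v v.2)
  -- lifts
  have hlift : ∀ t, Good α t → ∃ x : E, π x = t ∧ x * x ∈ ((δ (α t)).range).map V.subtype := by
    rintro t ⟨-, htt, s, hs, hst, hsv⟩
    obtain ⟨s0, rfl⟩ := hπ s
    obtain ⟨x0, rfl⟩ := hπ t
    have hs03 : s0 ^ 3 ∈ V := by rw [← hker, MonoidHom.mem_ker, map_pow, hs]
    set s1 := s0 ^ 4 with hs1
    have hπs : π s1 = π s0 := by rw [hs1, map_pow, pow_succ, hs, one_mul]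
    have hs13 : s1 ^ 3 = 1 := by
      rw [hs1, ← pow_mul, show 4 * 3 = 3 * 2 * 2 from rfl, pow_mul, pow_mul, sq (s0 ^ 3), hV2 _ hs03, one_pow]
    set v := x0 * s1 * x0⁻¹ * s1⁻¹ with hv
    have hvV : v ∈ V := by
      rw [← hker, MonoidHom.mem_ker, hv, map_mul, map_mul, map_mul, map_inv, map_inv, hπs]
      rw [show π x0 * π s0 = π s0 * π x0 from hst.eq.symm]
      group
    have hconjV : ∀ e : E, ∀ w ∈ V, e * w * e⁻¹ ∈ V := fun e w hw => Subgroup.Normal.conj_mem inferInstance w hw e
    set w := s1 * v * s1⁻¹ with hw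
    have hwV : w ∈ V := hconjV _ _ hvV
    have hw2V : s1 * w * s1⁻¹ ∈ V := hconjV _ _ hwV
    have hnorm : v * w * (s1 * w * s1⁻¹) = 1 := by
      have h : (v * s1) ^ 3 = 1 := by
        have : v * s1 = x0 * s1 * x0⁻¹ := by rw [hv]; group
        rw [this, conj_pow, hs13, mul_one, mul_inv_cancel]
      calc v * w * (s1 * w * s1⁻¹) = (v * s1) ^ 3 * (s1 ^ 3)⁻¹ := by rw [hw]; simp [pow_succ, mul_assoc]
        _ = 1 := by rw [h, hs13, inv_one, one_mul]
    refine ⟨w * x0, by rw [map_mul, MonoidHom.mem_ker.mp (show w ∈ π.ker from hker ▸ hwV), one_mul], ?_⟩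
    set x := w * x0 with hx
    have hxs : x * s1 = s1 * x := by
      have : x * s1 * x⁻¹ = s1 := by
        calc x * s1 * x⁻¹ = w * v * (s1 * w⁻¹ * s1⁻¹) * s1 := by rw [hx, hv]; group
          _ = w * v * (s1 * w * s1⁻¹) * s1 := by rw [hVinv w hwV]
          _ = s1 := by rw [hVc w hwV v hvV, hnorm, one_mul]
      exact mul_inv_eq_iff_eq_mul.mp this
    have hxxV : x * x ∈ V := by
      rw [← hker, MonoidHom.mem_ker, hx, map_mul, map_mul,
        MonoidHom.mem_ker.mp (show w ∈ π.ker from hker ▸ hwV), one_mul, htt]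
    have hπx : π x = π x0 := by
      rw [hx, map_mul, MonoidHom.mem_ker.mp (show w ∈ π.ker from hker ▸ hwV), one_mul]
    refine Subgroup.mem_map.mpr ⟨⟨x * x, hxxV⟩, hsv _ ?_ ?_, rfl⟩
    · refine Subtype.ext ?_
      rw [← hπs, happ]
      show s1 * (x * x) * s1⁻¹ = x * x
      rw [← mul_assoc, ← hxs, mul_assoc x s1 x, ← hxs]
      group
    · refine Subtype.ext ?_
      rw [← hπx, happ]
      show x * (x * x) * x⁻¹ = x * x
      group
  obtain ⟨a, b, c, U, ga, gb, gc, hab, hac, hbc, na, nb, nc, hU4, eab, eac, ebc, ua, ub, uc, ra, rb, rc⟩ :=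
    exists_triple h2 hV16 α hα
  obtain ⟨xa, pa, qa⟩ := hlift a ga
  obtain ⟨xb, pb, qb⟩ := hlift b gb
  obtain ⟨xc, pc, qc⟩ := hlift c gc
  set U' := U.map V.subtype with hU'
  set S : Set E := (V : Set E) ∪ {xa, xb, xc} with hS
  set B := Subgroup.closure S with hB
  have hVB : V ≤ B := fun v hv => Subgroup.subset_closure (Or.inl hv)
  have hUV : U' ≤ V := Subgroup.map_subtype_le U
  -- the three lifts centralize `U'`
  have hcentU : ∀ g ∈ B, ∀ u ∈ U', g * u * g⁻¹ = u := by
    have hgen : ∀ (x : E) (t : Equiv.Perm (Fin 6)), π x = t → U ≤ fx (α t) → ∀ u ∈ U', x * u * x⁻¹ = u := by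
      intro x t hxt hU u hu
      obtain ⟨w, hw, rfl⟩ := Subgroup.mem_map.mp hu
      have h := happ x w
      rw [hxt, mem_fx.mp (hU hw)] at h
      exact h.symm
    intro g hg u hu
    induction hg using Subgroup.closure_induction with
    | mem x hx =>
      rcases hx with hx | hx | hx | hx
      · rw [hVc x hx u (hUV hu), mul_inv_cancel_right]
      · exact hx ▸ hgen xa a pa ua u hu
      · exact hx ▸ hgen xb b pb ub u hu
      · exact hx ▸ hgen xc c pc uc u hu
    | one => group
    | mul x y _ _ hx hy =>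
      calc x * y * u * (x * y)⁻¹ = x * (y * u * y⁻¹) * x⁻¹ := by group
        _ = u := by rw [hy, hx]
    | inv x _ hx =>
      calc x⁻¹ * u * x⁻¹⁻¹ = x⁻¹ * (x * u * x⁻¹) * x := by rw [hx]; group
        _ = u := by group
  have hnorm : ∀ x ∈ B, ∀ n ∈ U', x * n * x⁻¹ ∈ U' := fun x hx n hn => by rw [hcentU x hx n hn]; exact hn
  have hδ : ∀ (x : E) (t : Equiv.Perm (Fin 6)), π x = t → (δ (α t)).range ≤ U →
      x * x ∈ ((δ (α t)).range).map V.subtype → ∀ v ∈ V, v * x * (v * x) ∈ U' := by
    intro x t hxt hr hq v hv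
    have hd : ((δ (α t) ⟨v, hv⟩ : V) : E) = v * (x * v * x⁻¹) := by
      show v * ((α t ⟨v, hv⟩ : V) : E) = _
      rw [← hxt, happ]
    rw [show v * x * (v * x) = v * (x * v * x⁻¹) * (x * x) by group, ← hd]
    exact U'.mul_mem (Subgroup.mem_map_of_mem _ (hr ⟨_, rfl⟩)) (Subgroup.map_mono hr hq)
  have hsqB : ∀ x ∈ B, x * x ∈ U' := by
    haveI : (U'.subgroupOf B).Normal := ⟨fun n hn g => hnorm g g.2 n hn⟩
    have hmk : ∀ g : B, ((g : E) * g ∈ U') ↔
        QuotientGroup.mk' (U'.subgroupOf B) g * QuotientGroup.mk' (U'.subgroupOf B) g = 1 := fun g => by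
      rw [← map_mul, ← MonoidHom.mem_ker, QuotientGroup.ker_mk', Subgroup.mem_subgroupOf]
      rfl
    intro x hx
    refine (hmk ⟨x, hx⟩).mpr (sq_eq_one_of_gens (QuotientGroup.mk' (U'.subgroupOf B) '' (B.subtype ⁻¹' S)) ?_ ?_ ?_ _)
    · rw [← MonoidHom.map_closure, show Subgroup.closure (B.subtype ⁻¹' S) = ⊤ from
        Subgroup.closure_closure_coe_preimage, ← MonoidHom.range_eq_map, QuotientGroup.range_mk']
    all_goals
      have hsingle : ∀ s ∈ S, s * s ∈ U' := by
        intro s hs
        rcases hs with hs | rfl | rfl | rfl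
        · rw [hV2 s hs]; exact U'.one_mem
        · exact Subgroup.map_mono ra qa
        · exact Subgroup.map_mono rb qb
        · exact Subgroup.map_mono rc qc
    · rintro _ ⟨s, hs, rfl⟩
      exact (hmk s).mp (hsingle s hs)
    · rintro _ ⟨s, hs, rfl⟩ _ ⟨t, ht, rfl⟩
      rw [← map_mul]
      refine (hmk (s * t)).mp ?_
      show (s : E) * t * ((s : E) * t) ∈ U'
      have hflip : ∀ p q : E, q ∈ B → p * q * (p * q) ∈ U' → q * p * (q * p) ∈ U' := by
        intro p q hq h
        have := hnorm q hq _ h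
        rwa [show q * (p * q * (p * q)) * q⁻¹ = q * p * (q * p) by group] at this
      have hpairlift : ∀ (x y : E) (t t' : Equiv.Perm (Fin 6)), π x = t → π y = t' → t * t = 1 → t' * t' = 1 →
          Commute t t' → U = fx (α (t * t')) → x * y * (x * y) ∈ U' := by
        intro x y t t' hxt hyt ht ht' hc hU
        have hmem : x * y * (x * y) ∈ V := by
          rw [← hker, MonoidHom.mem_ker]
          simp only [map_mul, hxt, hyt]
          calc t * t' * (t * t') = t * (t' * t) * t' := by group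
            _ = t * t * (t' * t') := by rw [← hc.eq]; group
            _ = 1 := by rw [ht, ht', one_mul]
        refine Subgroup.mem_map.mpr ⟨⟨_, hmem⟩, ?_, rfl⟩
        rw [hU, mem_fx]
        refine Subtype.ext ?_
        rw [← hxt, ← hyt, ← map_mul, happ]
        show x * y * (x * y * (x * y)) * (x * y)⁻¹ = x * y * (x * y)
        group
      have haB : ∀ z ∈ S, z ∈ B := fun z hz => Subgroup.subset_closure hz
      have mab : xa * xb * (xa * xb) ∈ U' := hpairlift xa xb a b pa pb ga.2.1 gb.2.1 hab eab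
      have mac : xa * xc * (xa * xc) ∈ U' := hpairlift xa xc a c pa pc ga.2.1 gc.2.1 hac eac
      have mbc : xb * xc * (xb * xc) ∈ U' := hpairlift xb xc b c pb pc gb.2.1 gc.2.1 hbc ebc
      have maa : ∀ z ∈ S, z * z * (z * z) ∈ U' := fun z hz => U'.mul_mem (hsingle z hz) (hsingle z hz)
      obtain ⟨s, hsB⟩ := s
      obtain ⟨t, htB⟩ := t
      change s ∈ S at hs
      change t ∈ S at ht
      change s * t * (s * t) ∈ U'
      have hxaS : xa ∈ S := Or.inr (Or.inl rfl)
      have hxbS : xb ∈ S := Or.inr (Or.inr (Or.inl rfl))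
      have hxcS : xc ∈ S := Or.inr (Or.inr (Or.inr rfl))
      rcases hs with hs | rfl | rfl | rfl <;> rcases ht with ht | rfl | rfl | rfl
      · rw [hV2 _ (V.mul_mem hs ht)]; exact U'.one_mem
      · exact hδ _ a pa ra qa s hs
      · exact hδ _ b pb rb qb s hs
      · exact hδ _ c pc rc qc s hs
      · exact hflip _ _ hsB (hδ _ a pa ra qa t ht)
      · exact maa _ hxaS
      · exact mab
      · exact mac
      · exact hflip _ _ hsB (hδ _ b pb rb qb t ht)
      · exact hflip _ _ hsB mab
      · exact maa _ hxbS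
      · exact mbc
      · exact hflip _ _ hsB (hδ _ c pc rc qc t ht)
      · exact hflip _ _ hsB mac
      · exact hflip _ _ hsB mbc
      · exact maa _ hxcS
  have hle16 := CfsgLib.RankFour.relIndex_le_of_sq_mem hr hnorm hsqB
  -- counting
  have hU'c : Nat.card U' = 4 := by rw [hU', Subgroup.card_map_of_injective V.subtype_injective, hU4]
  have hBmap : 8 ≤ Nat.card (B.map π) := by
    have ha : Subgroup.zpowers a ≤ B.map π := Subgroup.zpowers_le.mpr ⟨xa, Subgroup.subset_closure (Or.inr (Or.inl rfl)), pa⟩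
    have hb : b ∈ B.map π := ⟨xb, Subgroup.subset_closure (Or.inr (Or.inr (Or.inl rfl))), pb⟩
    have hc : c ∈ B.map π := ⟨xc, Subgroup.subset_closure (Or.inr (Or.inr (Or.inr rfl))), pc⟩
    have h1 : 2 * Nat.card (⊥ : Subgroup (Equiv.Perm (Fin 6))) ≤ Nat.card (Subgroup.zpowers a) :=
      two_mul_card_le (bot_lt_iff_ne_bot.mpr (by simpa [Subgroup.zpowers_eq_bot] using na))
    have h2' : 2 * Nat.card (Subgroup.zpowers a) ≤ Nat.card (Subgroup.closure {a, b}) :=
      two_mul_card_le (lt_of_le_of_ne (Subgroup.zpowers_le.mpr (Subgroup.subset_closure (Or.inl rfl)))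
        fun e => nb (e ▸ Subgroup.subset_closure (Or.inr rfl)))
    have hle : Subgroup.closure {a, b} ≤ B.map π := (Subgroup.closure_le _).mpr (by
      rintro z (rfl | rfl)
      exacts [ha (Subgroup.mem_zpowers z), hb])
    have h3 : 2 * Nat.card (Subgroup.closure {a, b}) ≤ Nat.card (B.map π) :=
      two_mul_card_le (lt_of_le_of_ne hle fun e => nc (e ▸ hc))
    rw [Subgroup.card_bot] at h1
    omega
  have hBc : Nat.card B = 16 * Nat.card (B.map π) := by
    have h := Subgroup.card_mul_index (π.comp B.subtype).ker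
    rw [Subgroup.index_ker] at h
    have hk : Nat.card (π.comp B.subtype).ker = 16 := by
      rw [← MonoidHom.comap_ker, hker, ← hV16]
      exact Nat.card_congr (Subgroup.subgroupOfEquivOfLe hVB).toEquiv
    have hr' : (π.comp B.subtype).range = B.map π := by rw [MonoidHom.range_comp, Subgroup.range_subtype]
    rw [hk, hr'] at h
    exact h.symm
  have hrel : U'.relIndex B * Nat.card U' = Nat.card B := by
    rw [Subgroup.relIndex, ← Nat.card_congr (Subgroup.subgroupOfEquivOfLe (hUV.trans hVB)).toEquiv,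
      Subgroup.index_mul_card]
  rw [hU'c, hBc] at hrel
  norm_num at hle16
  omega

end CfsgLib.AltEight.Sixteen
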