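import Cfsg.Agent.Lib.AltEight.SixSection
import Cfsg.Agent.Lib.StdForm.ConstrainedAut

/-!
# A 2-constrained group of sectional 2-rank four has no `S₆` modulo `O₂`
-/

set_option autoImplicit false
set_option linter.style.haveILetI false
set_option linter.unusedSectionVars false
set_option maxHeartbeats 1000000

namespace CfsgLib.AltEight.Sixteen

open Cfsg

theorem sectional_of_section {X Y E : Type*} [Group X] [Group Y] [Group E] {p k : ℕ}
    (hr : Cfsg.SectionalPRankLE p k X) (i : Y →* X) (hi : Function.Injective i) (q : Y →* E)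
    (hq : Function.Surjective q) : Cfsg.SectionalPRankLE p k E := by
  intro H N _ A hA hexp
  let mkH : H.comap q →* H ⧸ N := (QuotientGroup.mk' N).comp
    ((q.comp (H.comap q).subtype).codRestrict H fun y => y.2)
  have hmk : Function.Surjective mkH := by
    intro z
    obtain ⟨⟨h, hh⟩, rfl⟩ := QuotientGroup.mk'_surjective N z
    obtain ⟨y, rfl⟩ := hq h
    exact ⟨⟨y, hh⟩, rfl⟩
  refine CfsgLib.RankFour.card_le_of_hom hr ((i.comp (H.comap q).subtype).comp (A.comap mkH).subtype)
    ((mkH.comp (A.comap mkH).subtype).codRestrict A fun y => y.2) ?_ ?_ (fun a b => hA.is_comm.comm a b)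
    (fun a => Subtype.ext (hexp a a.2))
  · rintro ⟨a, ha⟩
    obtain ⟨y, rfl⟩ := hmk a
    exact ⟨⟨y, ha⟩, rfl⟩
  · intro y hy
    have hy1 : y = 1 := by
      have h1 : ((i.comp (H.comap q).subtype).comp (A.comap mkH).subtype) y = 1 := hy
      exact Subtype.ext (Subtype.ext (hi (h1.trans (map_one i).symm)))
    rw [hy1]
    exact one_mem _

/-- An elementary abelian 2-group on which `S₆` acts faithfully has at least sixteen elements. -/
theorem sixteen_le_card {W : Type*} [Group W] [Finite W] (hW : IsPGroup 2 W)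
    (f : Equiv.Perm (Fin 6) →* MulAut W) (hf : Function.Injective f) : 16 ≤ Nat.card W := by
  classical
  haveI : Fact (Nat.Prime 2) := ⟨Nat.prime_two⟩
  haveI : Fact (Nat.Prime 5) := ⟨by norm_num⟩
  by_contra h
  push Not at h
  set g : Equiv.Perm (Fin 6) :=
    ⟨![1, 2, 3, 4, 0, 5], ![4, 0, 1, 2, 3, 5], by decide, by decide⟩ with hg
  have hg5 : f g ^ 5 = 1 := by rw [← map_pow, show g ^ 5 = 1 by decide +kernel, map_one]
  have hg1 : f g ≠ 1 := fun e => absurd (hf (e.trans (map_one f).symm)) (by decide)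
  apply hg1
  let Fx : Subgroup W :=
    { carrier := {v | f g v = v}
      one_mem' := map_one _
      mul_mem' := fun {a b} (ha : f g a = a) (hb : f g b = b) => by
        show f g (a * b) = a * b; rw [map_mul, ha, hb]
      inv_mem' := fun {a} (ha : f g a = a) => by show f g a⁻¹ = a⁻¹; rw [map_inv, ha] }
  have hp : IsPGroup 5 (Subgroup.zpowers (f g)) :=
    IsPGroup.of_card (n := 1) (by rw [Nat.card_zpowers, pow_one]; exact orderOf_eq_prime hg5 hg1)
  have hmod := hp.card_modEq_card_fixedPoints W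
  have he : MulAction.fixedPoints (Subgroup.zpowers (f g)) W = (Fx : Set W) := by
    ext v
    rw [MulAction.mem_fixedPoints]
    constructor
    · intro hv; exact hv ⟨f g, Subgroup.mem_zpowers _⟩
    · rintro hv ⟨z, i, rfl⟩
      exact Subgroup.zpow_mem (MulAction.stabilizer (MulAut W) v) hv i
  rw [he] at hmod
  have htop : Fx = ⊤ := by
    refine Fx.eq_top_of_card_eq ?_
    have hd := Fx.card_subgroup_dvd_card
    obtain ⟨k, hk⟩ := IsPGroup.iff_card.mp hW
    have hk3 : k ≤ 3 := by
      by_contra h4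
      have := Nat.pow_le_pow_right (show 0 < 2 by norm_num) (show 4 ≤ k by omega)
      omega
    have hmod' : Nat.card W % 5 = Nat.card Fx % 5 := hmod
    have hle := Nat.le_of_dvd Nat.card_pos hd
    rw [hk] at hmod' hd hle ⊢
    interval_cases k <;> norm_num at hmod' hd hle ⊢ <;>
      (generalize Nat.card Fx = n at *; interval_cases n <;> omega)
  exact MulEquiv.ext fun v => (show v ∈ Fx from htop ▸ Subgroup.mem_top v)

/-- No subgroup isomorphic to `S₆` modulo `O₂`. -/
theorem no_perm_six {X : Type*} [Group X] [Finite X] (hc : Cfsg.IsPConstrained 2 X) (hO : Cfsg.oddCore X = ⊥)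
    (h4 : Cfsg.SectionalPRankLE 2 4 X) [(Cfsg.pCore 2 X).Normal]
    (hR4 : Cfsg.SectionalPRankLE 2 4 ↥(Cfsg.pCore 2 X))
    (j : Equiv.Perm (Fin 6) →* X ⧸ Cfsg.pCore 2 X) (hj : Function.Injective j) : False := by
  haveI : Fact (Nat.Prime 2) := ⟨Nat.prime_two⟩
  set R := Cfsg.pCore 2 X with hR
  obtain ⟨g, hg, hgeq⟩ := CfsgLib.StdForm.exists_hom_frattini_quotient hc hO
  have hP : IsPGroup 2 ↥R := CfsgLib.PLoc.pCore_pgroup 2 X
  obtain ⟨hW2, -⟩ := CfsgLib.StdForm.frattini_quotient_elementary hP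
  have hW16 : Nat.card (↥R ⧸ frattini ↥R) = 16 := le_antisymm
    (by simpa using CfsgLib.StdForm.card_frattini_quotient_le hP hR4)
    (sixteen_le_card (hP.to_quotient _) (g.comp j) (hg.comp hj))
  set M := (frattini ↥R).map R.subtype with hM
  have hMR : M ≤ R := Subgroup.map_subtype_le _
  haveI hMn : M.Normal := by
    refine ⟨fun m hm x => ?_⟩
    obtain ⟨k, hk, rfl⟩ := Subgroup.mem_map.mp hm
    refine Subgroup.mem_map.mpr ⟨MulAut.conjNormal x k, ?_, rfl⟩
    have hch := Subgroup.characteristic_iff_map_eq.mp (inferInstance : (frattini ↥R).Characteristic)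
      (MulAut.conjNormal x)
    exact hch ▸ Subgroup.mem_map_of_mem _ hk
  set Y := j.range.comap (QuotientGroup.mk' R) with hY
  have hRY : R ≤ Y := fun r hr => by
    refine ⟨1, ?_⟩
    rw [map_one]
    exact ((QuotientGroup.eq_one_iff r).mpr hr).symm
  haveI : (M.subgroupOf Y).Normal := inferInstance
  let π0 : Y →* Equiv.Perm (Fin 6) := (MonoidHom.ofInjective hj).symm.toMonoidHom.comp
    (((QuotientGroup.mk' R).comp Y.subtype).codRestrict j.range fun y => y.2)
  have hπ0 : ∀ y : Y, π0 y = 1 ↔ (y : X) ∈ R := fun y => by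
    show (MonoidHom.ofInjective hj).symm _ = 1 ↔ _
    rw [MulEquiv.map_eq_one_iff]
    exact Iff.trans Subtype.ext_iff (QuotientGroup.eq_one_iff _)
  have hπ0s : Function.Surjective π0 := by
    intro q
    obtain ⟨x, hx⟩ := QuotientGroup.mk'_surjective R (j q)
    refine ⟨⟨x, ⟨q, hx.symm⟩⟩, ?_⟩
    apply (MonoidHom.ofInjective hj).injective
    show MonoidHom.ofInjective hj ((MonoidHom.ofInjective hj).symm _) = _
    rw [MulEquiv.apply_symm_apply]
    exact Subtype.ext hx
  let E := Y ⧸ M.subgroupOf Y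
  let π : E →* Equiv.Perm (Fin 6) := QuotientGroup.lift (M.subgroupOf Y) π0 fun y hy =>
    (hπ0 y).mpr (hMR (Subgroup.mem_subgroupOf.mp hy))
  let V : Subgroup E := (R.subgroupOf Y).map (QuotientGroup.mk' (M.subgroupOf Y))
  haveI : V.Normal := (inferInstance : (R.subgroupOf Y).Normal).map _ (QuotientGroup.mk'_surjective _)
  have hπs : Function.Surjective π := fun q => by
    obtain ⟨y, hy⟩ := hπ0s q
    exact ⟨QuotientGroup.mk' _ y, hy⟩
  have hker : π.ker = V := by
    ext e
    obtain ⟨y, rfl⟩ := QuotientGroup.mk'_surjective (M.subgroupOf Y) e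
    constructor
    · intro h
      exact Subgroup.mem_map_of_mem _ (Subgroup.mem_subgroupOf.mpr ((hπ0 y).mp h))
    · intro h
      obtain ⟨r, hr, he⟩ := Subgroup.mem_map.mp h
      rw [MonoidHom.mem_ker, ← he]
      exact (hπ0 r).mpr (Subgroup.mem_subgroupOf.mp hr)
  have hMmem : ∀ k : ↥R, (k : X) ∈ M ↔ k ∈ frattini ↥R := fun k => by
    rw [hM]
    exact ⟨fun h => by
      obtain ⟨k', hk', he⟩ := Subgroup.mem_map.mp h
      exact (Subtype.ext he : k' = k) ▸ hk', fun h => Subgroup.mem_map_of_mem R.subtype h⟩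
  let φ : ↥R →* E := (QuotientGroup.mk' (M.subgroupOf Y)).comp (Subgroup.inclusion hRY)
  have hφk : φ.ker = frattini ↥R := by
    ext k
    rw [MonoidHom.mem_ker]
    exact Iff.trans (QuotientGroup.eq_one_iff (Subgroup.inclusion hRY k))
      (Iff.trans Subgroup.mem_subgroupOf (hMmem k))
  have hφr : φ.range = V := by
    ext e
    constructor
    · rintro ⟨k, rfl⟩
      exact Subgroup.mem_map_of_mem _ (Subgroup.mem_subgroupOf.mpr k.2)
    · intro h
      obtain ⟨r, hr, rfl⟩ := Subgroup.mem_map.mp h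
      exact ⟨⟨r, Subgroup.mem_subgroupOf.mp hr⟩, rfl⟩
  have hV16 : Nat.card V = 16 := by
    rw [← hφr, ← Subgroup.index_ker, hφk, Subgroup.index_eq_card, hW16]
  have hV2 : ∀ v ∈ V, v * v = 1 := by
    intro v hv
    rw [← hφr] at hv
    obtain ⟨k, rfl⟩ := hv
    rw [← map_mul, ← MonoidHom.mem_ker, hφk, ← QuotientGroup.eq_one_iff, QuotientGroup.mk_mul]
    exact hW2 _
  have hcent : Subgroup.centralizer (V : Set E) ≤ V := by
    intro e he
    obtain ⟨y, rfl⟩ := QuotientGroup.mk'_surjective (M.subgroupOf Y) e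
    refine Subgroup.mem_map_of_mem _ (Subgroup.mem_subgroupOf.mpr ?_)
    rw [← QuotientGroup.eq_one_iff (y : X)]
    apply hg
    rw [map_one]
    refine MulEquiv.ext fun w => ?_
    induction w using QuotientGroup.induction_on with
    | H k =>
      rw [hgeq, MulAut.one_apply, QuotientGroup.eq_iff_div_mem, ← hφk, MonoidHom.mem_ker, map_div, div_eq_one]
      have h := Subgroup.mem_centralizer_iff.mp he (φ k) (hφr ▸ ⟨k, rfl⟩)
      have h' : φ (MulAut.conjNormal (y : X) k) = QuotientGroup.mk' _ y * φ k * (QuotientGroup.mk' (M.subgroupOf Y) y)⁻¹ := by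
        show QuotientGroup.mk' _ _ = _
        rw [show Subgroup.inclusion hRY (MulAut.conjNormal (y : X) k) = y * Subgroup.inclusion hRY k * y⁻¹ from
          Subtype.ext rfl, map_mul, map_mul, map_inv]
        rfl
      rw [h', ← h, mul_inv_cancel_right]
  exact not_sectional_four V hV2 hV16 π hπs hker hcent
    (sectional_of_section h4 Y.subtype Y.subtype_injective (QuotientGroup.mk' _) (QuotientGroup.mk'_surjective _))

/-- `S₆` in `A₈`. -/
theorem exists_perm_six_alt_eight :
    ∃ f : Equiv.Perm (Fin 6) →* alternatingGroup (Fin 8), Function.Injective f := by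
  let ψ : ℤˣ →* Equiv.Perm (Fin 2) :=
    { toFun := fun u => if u = 1 then 1 else Equiv.swap 0 1
      map_one' := if_pos rfl
      map_mul' := by decide }
  let inner : Equiv.Perm (Fin 6) →* Equiv.Perm (Fin 6) × Equiv.Perm (Fin 2) :=
    (MonoidHom.id _).prod (ψ.comp Equiv.Perm.sign)
  let f : Equiv.Perm (Fin 6) →* Equiv.Perm (Fin 8) :=
    (finSumFinEquiv (m := 6) (n := 2)).permCongrHom.toMonoidHom.comp
      ((Equiv.Perm.sumCongrHom (Fin 6) (Fin 2)).comp inner)
  have hf : Function.Injective f := by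
    intro a b h
    have h1 := (finSumFinEquiv (m := 6) (n := 2)).permCongrHom.injective h
    have h2 := Equiv.Perm.sumCongrHom_injective h1
    exact congrArg Prod.fst h2
  have hsign : ∀ σ, f σ ∈ alternatingGroup (Fin 8) := fun σ => by
    rw [Equiv.Perm.mem_alternatingGroup]
    show Equiv.Perm.sign ((finSumFinEquiv (m := 6) (n := 2)).permCongr (Equiv.Perm.sumCongr σ (ψ (Equiv.Perm.sign σ)))) = 1
    rw [Equiv.Perm.sign_permCongr, Equiv.Perm.sign_sumCongr]
    generalize Equiv.Perm.sign σ = u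
    revert u
    decide
  exact ⟨f.codRestrict _ hsign, fun a b h => hf (congrArg Subtype.val h)⟩

end CfsgLib.AltEight.Sixteen
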